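import Cfsg.Agent.Lib.InvChar.Fi22Inv.Close

/-!
The hypotheses of the recognition theorem in the form of `Cen`.
-/

set_option autoImplicit false

namespace CfsgLib.InvChar.Fi22Inv

open CfsgLib.Trans3 CfsgLib.Trans3.Fi

theorem cen_of_hyp {G : Type*} [Group G] [Finite G] {d : G} (hd : orderOf d = 2)
    (hq : Cfsg.IsQuasisimple (Subgroup.centralizer ({d} : Set G)))
    [((Subgroup.zpowers d).subgroupOf (Subgroup.centralizer ({d} : Set G))).Normal]
    (K : Type) [Field K] [Fintype K] (hK : Fintype.card K = 4)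
    (e : (Subgroup.centralizer ({d} : Set G)) ⧸
      (Subgroup.zpowers d).subgroupOf (Subgroup.centralizer ({d} : Set G)) ≃* Cfsg.PSU 6 K 2)
    (hnwc : ∃ g : G, g * d * g⁻¹ ∈ Subgroup.centralizer ({d} : Set G) ∧ g * d * g⁻¹ ≠ d) :
    Cen d := by
  obtain ⟨N, eN⟩ : ∃ N, N = (Subgroup.zpowers d).subgroupOf (Subgroup.centralizer ({d} : Set G)) :=
    ⟨_, rfl⟩
  haveI : N.Normal := eN ▸ inferInstance
  have e' : ↥(Subgroup.centralizer ({d} : Set G)) ⧸ N ≃* Cfsg.PSU 6 K 2 :=
    (QuotientGroup.quotientMulEquivOfEq eN).trans e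
  have hU : IsU6 (↥(Subgroup.centralizer ({d} : Set G)) ⧸ N) := ⟨K, _, _, hK, ⟨e'⟩⟩
  obtain ⟨D, hD⟩ := u6_exists_group hU
  have hbot := (u6Facts hU hD).center
  have hcen : Subgroup.center ↥(Subgroup.centralizer ({d} : Set G)) = N := by
    refine le_antisymm (fun u hu => ?_) fun u hu => ?_
    · have : (QuotientGroup.mk' N u) ∈ Subgroup.center _ := by
        rw [Subgroup.mem_center_iff]
        intro q
        obtain ⟨w, rfl⟩ := QuotientGroup.mk'_surjective N q
        rw [← map_mul, ← map_mul, Subgroup.mem_center_iff.1 hu w]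
      rw [hbot, Subgroup.mem_bot] at this
      exact (QuotientGroup.eq_one_iff u).1 this
    · rw [eN, Subgroup.mem_subgroupOf] at hu
      obtain ⟨k, hk⟩ := hu
      refine Subgroup.mem_center_iff.2 fun w => Subtype.ext ?_
      show (w : G) * u = u * w
      rw [← show d ^ k = (u : G) from hk]
      exact ((show Commute (w : G) d from Subgroup.mem_centralizer_singleton_iff.1 w.2).zpow_right k).eq
  refine ⟨hd, ?_, ?_, fun u hu => ?_, hnwc⟩
  · exact hq.1.commutator_eq_top
  · exact ⟨K, _, _, hK, ⟨(QuotientGroup.quotientMulEquivOfEq hcen).trans e'⟩⟩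
  · rw [hcen, eN, Subgroup.mem_subgroupOf] at hu
    obtain ⟨k, hk⟩ := hu
    rw [← show d ^ k = (u : G) from hk]
    rcases Int.even_or_odd' k with ⟨j, rfl | rfl⟩
    · left; rw [zpow_mul, zpow_two, CfsgLib.Invol.invol_mul_self hd, one_zpow]
    · right; rw [zpow_add, zpow_mul, zpow_two, CfsgLib.Invol.invol_mul_self hd, one_zpow, one_mul,
        zpow_one]

end CfsgLib.InvChar.Fi22Inv
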