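import Cfsg.Agent.Lib.InvChar.Fi22Inv.Edge
import Cfsg.Agent.Lib.Trans3.Fi.M23Base

/-!
The component is the whole class.
-/

set_option autoImplicit false
set_option linter.unusedSectionVars false

namespace CfsgLib.InvChar.Fi22Inv

open CfsgLib.Trans3 CfsgLib.Trans3.Fi
open CfsgLib.Invol (zpow_conj_left right_eq left_mul_zpow conj_pow_inv conj_left_mul
  orderOf_pow_half commute_pow_half_left commute_pow_half_right exists_conj_of_odd isConj_of_odd
  eq_one_of_sq_of_odd)

theorem zpow_mul_left_mem {G : Type*} [Group G] {D : Set G}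
    (hD : ∀ g : G, ∀ u ∈ D, g * u * g⁻¹ ∈ D) {x y : G} (hx : x ∈ D) (hy : y ∈ D)
    (ox : orderOf x = 2) (oy : orderOf y = 2) (k : ℤ) : (x * y) ^ k * x ∈ D := by
  obtain ⟨j, rfl | rfl⟩ := Int.even_or_odd' k
  · rw [← zpow_conj_left ox oy]; exact hD _ x hx
  · have : (x * y) ^ (2 * j + 1) * x = (x * y) ^ (j + 1) * y * ((x * y) ^ (j + 1))⁻¹ := by
      conv_rhs => arg 1; arg 2; rw [← right_eq ox oy]
      rw [← mul_assoc, ← zpow_add, ← zpow_neg, mul_assoc _ x, left_mul_zpow ox oy, neg_neg,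
        ← mul_assoc, ← zpow_add]
      congr 2; ring
    rw [this]; exact hD _ y hy

theorem mem_erase' {α : Type*} [DecidableEq α] {l : List α} {a b : α} (h : a ≠ b) (m : a ∈ l) :
    a ∈ l.erase b := (List.mem_erase_of_ne h).2 m

theorem mem_of_erase' {α : Type*} [DecidableEq α] {l : List α} {a b : α} (m : a ∈ l.erase b) :
    a ∈ l := List.mem_of_mem_erase m

variable {G : Type*} [Group G] [Finite G] {d : G} (h : Cen d)
include h

/-- The relation propagates through the neighbourhood. -/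
theorem invert_spread {o p q r x : G} (ho : o ∈ conjugatesOf d) (hp : p ∈ Comp d o)
    (hq : q ∈ nbrs (conjugatesOf d) p) (hr : r ∈ nbrs (conjugatesOf d) p) (hx : Odd (orderOf x))
    (ip : p * x * p = x⁻¹) (iq : q * x * q = x⁻¹) : r * x * r = x⁻¹ := by
  have step : ∀ {p q r : G}, p ∈ Comp d o → q ∈ nbrs (conjugatesOf d) p →
      r ∈ nbrs (conjugatesOf d) p → Commute r q → p * x * p = x⁻¹ → q * x * q = x⁻¹ →
      r * x * r = x⁻¹ := by
    intro p q r hp hq hr crq ip iq
    by_cases e : r = q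
    · exact e ▸ iq
    refine (edge_core h ho hp hq).2 r hr crq e x hx ?_ ip
    have sp := loc_sq h (comp_mem ho hp)
    have sq' := loc_sq h hq.1
    have h2 : q * x⁻¹ * q = x := by
      have := congrArg (fun z => z⁻¹) iq
      simpa [mul_inv_rev, invol_inv (cen_of_mem h hq.1).ord, mul_assoc] using this
    have h1 : p * q * x * (p * q)⁻¹ = x := by
      rw [mul_inv_rev, invol_inv (cen_of_mem h hq.1).ord, invol_inv (cen_of_mem h (comp_mem ho hp)).ord,
        show p * q * x * (q * p) = p * (q * x * q) * p by group, iq]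
      have := congrArg (fun z => z⁻¹) ip
      simpa [mul_inv_rev, invol_inv (cen_of_mem h (comp_mem ho hp)).ord, mul_assoc] using this
    exact (mul_inv_eq_iff_eq_mul.1 h1).symm
  by_cases crq : Commute r q
  · exact step hp hq hr crq ip iq
  have hpm := comp_mem ho hp
  obtain ⟨qA, qB, qC, qE, hQ⟩ := u6_quad (loc_u6 h hpm) (loc_group h hpm) (bar_mem hq) (bar_mem hr)
    fun e => crq ((loc_commute h hpm hq hr).1 e).symm
  obtain ⟨mA, c1, c2⟩ := hQ.mem qA (by simp)
  obtain ⟨s, hs, rfl⟩ := exists_bar mA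
  have csq : Commute s q := ((loc_commute h hpm hq hs).1 c1).symm
  have crs : Commute r s := (loc_commute h hpm hr hs).1 c2
  exact step hp hs hr crs ip (step hp hq hs csq ip iq)

/-- An element of odd order inverted by two adjacent members is trivial. -/
theorem invert_trivial {o a b x : G} (ho : o ∈ conjugatesOf d) (ha : a ∈ Comp d o)
    (hb : b ∈ nbrs (conjugatesOf d) a) (hx : Odd (orderOf x)) (hxi : Commute x (a * b))
    (hax : a * x * a = x⁻¹) : x = 1 := by
  have sa := loc_sq h (comp_mem ho ha)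
  have sb := loc_sq h hb.1
  have hbx : b * x * b = x⁻¹ := by
    calc b * x * b = a * (a * b * x) * b := by rw [← mul_assoc a, ← mul_assoc a, sa, one_mul]
      _ = a * (x * (a * b)) * b := by rw [hxi.eq]
      _ = a * x * a * (b * b) := by group
      _ = x⁻¹ := by rw [sb, mul_one, hax]
  have hall : ∀ p ∈ Comp d o, p * x * p = x⁻¹ := by
    intro p hp
    have hap : p ∈ Comp d a := (comp_symm ho ha).trans hp
    suffices p * x * p = x⁻¹ ∧ ∃ q ∈ nbrs (conjugatesOf d) p, q * x * q = x⁻¹ from this.1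
    clear hp
    induction hap with
    | refl => exact ⟨hax, b, hb, hbx⟩
    | @tail u v hau huv ih =>
      obtain ⟨iu, q, hq, iq⟩ := ih
      exact ⟨invert_spread h ho (ha.trans hau) hq huv hx iu iq,
        u, adj_symm (comp_mem ho (ha.trans hau)) huv, iu⟩
  haveI := m22_simple (comp_group h ho) (comp_prim h ho) (comp_m22 h ho)
  obtain ⟨K, eK⟩ : ∃ K : Subgroup ↥(Subgroup.closure (Comp d o)),
      K = (Subgroup.centralizer ({x} : Set G)).subgroupOf _ := ⟨_, rfl⟩
  have hpm : ∀ g ∈ Subgroup.closure (Comp d o), g * x * g⁻¹ = x ∨ g * x * g⁻¹ = x⁻¹ := by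
    intro g hg
    induction hg using Subgroup.closure_induction with
    | mem p hp =>
      right; rw [invol_inv (cen_of_mem h (comp_mem ho hp)).ord]; exact hall p hp
    | one => left; group
    | mul u v _ _ e1 e2 =>
      rw [show u * v * x * (u * v)⁻¹ = u * (v * x * v⁻¹) * u⁻¹ by group]
      rcases e2 with e | e <;> rw [e]
      · exact e1
      · rw [show u * x⁻¹ * u⁻¹ = (u * x * u⁻¹)⁻¹ by group]
        rcases e1 with e | e <;> rw [e]
        exacts [Or.inr rfl, Or.inl (inv_inv x)]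
    | inv u _ e1 =>
      rcases e1 with e | e
      · left; conv_lhs => arg 1; arg 2; rw [← e]
        group
      · right
        have e' : u * x⁻¹ * u⁻¹ = x := by
          rw [show u * x⁻¹ * u⁻¹ = (u * x * u⁻¹)⁻¹ by group, e, inv_inv]
        conv_lhs => arg 1; arg 2; rw [← e']
        group
  have hKn : K.Normal := by
    subst eK
    refine ⟨fun k hk g => ?_⟩
    rw [Subgroup.mem_subgroupOf, Subgroup.mem_centralizer_singleton_iff] at hk ⊢
    have hk' : Commute (k : G) x := hk
    show (g : G) * k * (g : G)⁻¹ * x = x * ((g : G) * k * (g : G)⁻¹)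
    rcases hpm _ (inv_mem g.2) with e | e <;> rw [inv_inv] at e
    · calc (g : G) * k * (g : G)⁻¹ * x = g * (k * ((g : G)⁻¹ * x * g)) * (g : G)⁻¹ := by group
        _ = g * (((g : G)⁻¹ * x * g) * k) * (g : G)⁻¹ := by rw [e, hk'.eq]
        _ = x * ((g : G) * k * (g : G)⁻¹) := by group
    · calc (g : G) * k * (g : G)⁻¹ * x = g * (k * ((g : G)⁻¹ * x * g)) * (g : G)⁻¹ := by group
        _ = g * (((g : G)⁻¹ * x * g) * k) * (g : G)⁻¹ := by rw [e, hk'.inv_right.eq]
        _ = x * ((g : G) * k * (g : G)⁻¹) := by group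
  rcases hKn.eq_bot_or_eq_top with e | e
  · exfalso
    have hab : (⟨a * b, mul_mem (Subgroup.subset_closure ha) (Subgroup.subset_closure (ha.tail hb))⟩ :
        ↥(Subgroup.closure (Comp d o))) ∈ K := by
      rw [eK, Subgroup.mem_subgroupOf, Subgroup.mem_centralizer_singleton_iff]; exact hxi.eq.symm
    rw [e, Subgroup.mem_bot] at hab
    refine hb.2.1 ?_
    rw [← inv_eq_of_mul_eq_one_right (congrArg Subtype.val hab : a * b = 1),
      invol_inv (cen_of_mem h (comp_mem ho ha)).ord]
  · have : (⟨a, Subgroup.subset_closure ha⟩ : ↥(Subgroup.closure (Comp d o))) ∈ K :=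
      e ▸ Subgroup.mem_top _
    rw [eK, Subgroup.mem_subgroupOf, Subgroup.mem_centralizer_singleton_iff] at this
    have this : a * x = x * a := this
    rw [this, mul_assoc, sa, mul_one] at hax
    refine eq_one_of_sq_of_odd ?_ hx
    nth_rewrite 1 [hax]
    exact inv_mul_cancel x

/-- The centraliser of an adjacent pair. -/
theorem pair_centralizer {o a b g : G} (ho : o ∈ conjugatesOf d) (ha : a ∈ Comp d o)
    (hb : b ∈ nbrs (conjugatesOf d) a) (hg : Commute g (a * b)) :
    g ∈ Subgroup.closure (Comp d o) := by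
  obtain ⟨m, hm, hpow⟩ := (edge_core h ho ha hb).1 g hg
  obtain ⟨u, eu⟩ : ∃ u, u = g * a * g⁻¹ := ⟨_, rfl⟩
  rw [← eu] at hpow
  have oa := (cen_of_mem h (comp_mem ho ha)).ord
  have hu : u ∈ conjugatesOf d := eu ▸ conj_mem g (comp_mem ho ha)
  have ou := (cen_of_mem h hu).ord
  have ca : Commute a (a * b) := (Commute.refl a).mul_right hb.2.2
  have cu : Commute u (a * b) := by
    rw [eu]; exact (hg.mul_left ca).mul_left hg.inv_left
  have hinv : a * (a * u) ^ 2 * a = ((a * u) ^ 2)⁻¹ := by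
    have := conj_pow_inv (conj_left_mul oa ou) 2
    rwa [invol_inv oa] at this
  have hk : (a * u) ^ 2 = 1 := invert_trivial h ho ha hb
    (Odd.of_dvd_nat hm (orderOf_dvd_of_pow_eq_one hpow))
    ((ca.mul_left cu).pow_left 2) hinv
  have hc : Commute a u := by
    show a * u = u * a
    rw [pow_two] at hk
    rw [eq_inv_of_mul_eq_one_left hk, mul_inv_rev, invol_inv oa, invol_inv ou]
  exact comp_stab h ho ha (eu ▸ comp_comm ha hu hc)

/-- A member outside has product of odd order with a member inside. -/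
theorem outside_odd {o a y : G} (ho : o ∈ conjugatesOf d) (ha : a ∈ Comp d o)
    (hy : y ∈ conjugatesOf d) (hy' : y ∉ Comp d o) : Odd (orderOf (a * y)) := by
  have hyH : y ∉ Subgroup.closure (Comp d o) := by
    intro hm
    obtain ⟨w, hw, cw⟩ := m22_fixed (comp_group h ho) (comp_prim h ho) (comp_m22 h ho)
      (x := ⟨y, hm⟩) (Subtype.ext (loc_sq h hy))
    exact hy' (comp_comm hw hy (cw.map (Subgroup.closure (Comp d o)).subtype).symm)
  have oa := (cen_of_mem h (comp_mem ho ha)).ord
  have oy := (cen_of_mem h hy).ord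
  rw [← Nat.not_even_iff_odd]
  intro heven
  obtain ⟨k, ek⟩ : ∃ k, k = (a * y) ^ (orderOf (a * y) / 2) := ⟨_, rfl⟩
  have ok : orderOf k = 2 := ek ▸ orderOf_pow_half heven
  have cka : Commute k a := ek ▸ commute_pow_half_left oa oy heven
  have cky : Commute k y := ek ▸ commute_pow_half_right oa oy heven
  have hkH : k ∈ Subgroup.closure (Comp d o) :=
    comp_centralizer h ho ha (Subgroup.mem_centralizer_singleton_iff.2 cka.eq)
  have hka : k * a ∈ conjugatesOf d := by
    have := zpow_mul_left_mem (fun g u hu => conj_mem g hu) (comp_mem ho ha) hy oa oy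
      ((orderOf (a * y) / 2 : ℕ) : ℤ)
    rwa [zpow_natCast, ← ek] at this
  have hb : k * a ∈ nbrs (conjugatesOf d) a :=
    ⟨hka, fun e => invol_ne_one ok (mul_eq_right.1 e), cka.symm.mul_right (Commute.refl a)⟩
  have e : a * (k * a) = k := by rw [← mul_assoc, ← cka.eq, mul_assoc, loc_sq h (comp_mem ho ha), mul_one]
  exact hyH (pair_centralizer h ho ha hb (by rw [e]; exact cky.symm))

/-- The factors of a product of three commuting members lie among six. -/
theorem triple_factors {o a b c : G} (ho : o ∈ conjugatesOf d) (ha : a ∈ Comp d o)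
    (hb : b ∈ nbrs (conjugatesOf d) a) (hc : c ∈ nbrs (conjugatesOf d) a) (hbc : b ≠ c)
    (cbc : Commute b c) :
    ∃ t₁ t₂ t₃ : G, (∀ t ∈ [t₁, t₂, t₃], t ∈ nbrs (conjugatesOf d) a) ∧
      ∀ x ∈ Subgroup.closure (Comp d o), Commute x (a * b * c) →
        x * a * x⁻¹ ∈ [a, b, c, t₁, t₂, t₃] := by
  classical
  have hG := comp_group h ho
  have hM := comp_m22 h ho
  let A : ↥(Subgroup.closure (Comp d o)) := ⟨a, Subgroup.subset_closure ha⟩
  let B : ↥(Subgroup.closure (Comp d o)) := ⟨b, Subgroup.subset_closure (ha.tail hb)⟩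
  let C : ↥(Subgroup.closure (Comp d o)) := ⟨c, Subgroup.subset_closure (ha.tail hc)⟩
  have hB : B ∈ nbrs (compSet d o) A :=
    ⟨ha.tail hb, fun e => hb.2.1 (congrArg Subtype.val e), Subtype.ext hb.2.2.eq⟩
  have hC : C ∈ nbrs (compSet d o) A :=
    ⟨ha.tail hc, fun e => hc.2.1 (congrArg Subtype.val e), Subtype.ext hc.2.2.eq⟩
  have cBC : Commute B C := Subtype.ext cbc.eq
  have nBC : B ≠ C := fun e => hbc (congrArg Subtype.val e)
  obtain ⟨T₁, T₂, T₃, hT, hAT, huniq⟩ := m22_line hG (comp_prim h ho) hM (a := A) ha hB hC nBC cBC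
  have hbase : Fac (compSet d o) 3 (A * B * C) [A, B, C] := by
    refine ⟨by simp [nBC, Ne.symm hB.2.1, Ne.symm hC.2.1], rfl, ?_, ?_, by simp [mul_assoc]⟩
    · intro u hu
      simp only [List.mem_cons, List.not_mem_nil, or_false] at hu
      rcases hu with rfl | rfl | rfl
      exacts [ha, hB.1, hC.1]
    · simp [cBC, cBC.symm, hB.2.2, hB.2.2.symm, hC.2.2, hC.2.2.symm]
  have hcAk : Commute A (A * B * C) := ((Commute.refl A).mul_right hB.2.2).mul_right hC.2.2
  refine ⟨T₁, T₂, T₃, fun t ht => ?_, fun x hx hxk => ?_⟩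
  · obtain ⟨u, hu, rfl⟩ : ∃ u ∈ [T₁, T₂, T₃], (u : G) = t := by
      simp only [List.mem_cons, List.not_mem_nil, or_false] at ht ⊢
      rcases ht with rfl | rfl | rfl
      exacts [⟨T₁, by simp⟩, ⟨T₂, by simp⟩, ⟨T₃, by simp⟩]
    exact ⟨comp_mem ho (hT.2.2.1 u hu),
      fun e => hAT (((Subtype.ext e : u = A)) ▸ hu),
      (commute_of_prod hG le_rfl hT ha hcAk u hu).map (Subgroup.closure (Comp d o)).subtype⟩
  obtain ⟨X, eX⟩ : ∃ X : ↥(Subgroup.closure (Comp d o)), X = ⟨x, hx⟩ := ⟨_, rfl⟩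
  have hXk : X * (A * B * C) * X⁻¹ = A * B * C :=
    mul_inv_eq_iff_eq_mul.2 (Subtype.ext (by rw [eX]; exact hxk.eq))
  have hl : Fac (compSet d o) 3 (A * B * C) ([A, B, C].map (MulAut.conj X)) := by
    obtain ⟨h1, -, h3, h4, h5⟩ := hbase
    refine ⟨h1.map (MulAut.conj X).injective, rfl, fun u hu => ?_, fun u hu v hv => ?_, ?_⟩
    · obtain ⟨w, hw, rfl⟩ := List.mem_map.1 hu
      exact hG.2.1 X w (h3 w hw)
    · obtain ⟨w, hw, rfl⟩ := List.mem_map.1 hu
      obtain ⟨z, hz, rfl⟩ := List.mem_map.1 hv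
      exact (h4 w hw z hz).map (MulAut.conj X).toMonoidHom
    · rw [← map_list_prod, h5, MulAut.conj_apply, hXk]
  have hval : x * a * x⁻¹ = ((MulAut.conj X A : ↥(Subgroup.closure (Comp d o))) : G) := by
    rw [eX]; rfl
  have hmem : MulAut.conj X A ∈ [A, B, C, T₁, T₂, T₃] := by
    by_cases hcap : ∃ u ∈ [A, B, C], u ∈ [A, B, C].map (MulAut.conj X)
    · obtain ⟨u, hu, hu'⟩ := hcap
      by_cases e : MulAut.conj X A = u
      · exact e ▸ List.mem_append_left [T₁, T₂, T₃] hu
      · have hiff := determined hG (m := 2) (by norm_num)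
          (fun _ => m22_noRel_le hG hM (by norm_num) (by norm_num)) (fun e => absurd e (by norm_num))
          (fac_erase hl hu') (fac_erase hbase hu) (MulAut.conj X A)
        have hA : MulAut.conj X A ∈ [A, B, C].map (MulAut.conj X) :=
          List.mem_map_of_mem List.mem_cons_self
        have := hiff.1 (mem_erase' e hA)
        exact List.mem_append_left [T₁, T₂, T₃] (mem_of_erase' this)
    · simp only [not_exists, not_and] at hcap
      exact List.mem_append_right [A, B, C] ((huniq _ hl hcap _).1 (by simp))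
  rw [hval]
  exact List.mem_map_of_mem (f := Subtype.val) hmem

/-- The centraliser of a product of three commuting members. -/
theorem triple_mem {o a b c y : G} (ho : o ∈ conjugatesOf d) (ha : a ∈ Comp d o)
    (hb : b ∈ nbrs (conjugatesOf d) a) (hc : c ∈ nbrs (conjugatesOf d) a) (hbc : b ≠ c)
    (cbc : Commute b c) (hy : y ∈ conjugatesOf d) (hyk : Commute y (a * b * c)) : y ∈ Comp d o := by
  classical
  by_contra hyn
  obtain ⟨t₁, t₂, t₃, ht, hsix⟩ := triple_factors h ho ha hb hc hbc cbc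
  have ham := comp_mem ho ha
  have hm := u6_meet_two (loc_u6 h ham) (loc_group h ham) (bar_mem hb) (bar_mem hc)
    (fun e => hbc (loc_bar_inj h ham hb hc e)) ((loc_commute h ham hb hc).2 cbc)
  obtain ⟨q, hq, hqn⟩ : ∃ q ∈ meet (Db (conjugatesOf d) a) [bar hb, bar hc],
      q ∉ ({bar hb, bar hc, bar (ht t₁ (by simp)), bar (ht t₂ (by simp)), bar (ht t₃ (by simp))} :
        Finset (Qd (conjugatesOf d) a)) := by
    by_contra! hall
    have hsub : meet (Db (conjugatesOf d) a) [bar hb, bar hc] ⊆ ↑({bar hb, bar hc,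
      bar (ht t₁ (by simp)), bar (ht t₂ (by simp)), bar (ht t₃ (by simp))} :
        Finset (Qd (conjugatesOf d) a)) := fun q hq => Finset.mem_coe.2 (hall q hq)
    have h1 := Set.ncard_le_ncard hsub
    rw [hm, Set.ncard_coe_finset] at h1
    have h2 : ∀ p₁ p₂ p₃ p₄ p₅ : Qd (conjugatesOf d) a,
        ({p₁, p₂, p₃, p₄, p₅} : Finset _).card ≤ 5 := fun _ _ _ _ _ => Finset.card_le_five
    exact absurd (h1.trans (h2 _ _ _ _ _)) (by norm_num)
  obtain ⟨g, hg, rfl⟩ := exists_bar hq.1
  have cgb := (loc_commute h ham hg hb).1 (hq.2 _ (by simp))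
  have cgc := (loc_commute h ham hg hc).1 (hq.2 _ (by simp))
  have conjy : ∀ p ∈ Comp d o, Commute p (a * b * c) →
      ∃ w, Commute w (a * b * c) ∧ w * p * w⁻¹ = y := by
    intro p hp hpk
    obtain ⟨w, hw, e⟩ := exists_conj_of_odd (cen_of_mem h (comp_mem ho hp)).ord (cen_of_mem h hy).ord
      (outside_odd h ho hp hy hyn)
    obtain ⟨j, rfl⟩ := hw
    exact ⟨_, (hpk.mul_left hyk).zpow_left j, e⟩
  obtain ⟨w₁, c₁, e₁⟩ := conjy a ha (((Commute.refl a).mul_right hb.2.2).mul_right hc.2.2)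
  obtain ⟨w₂, c₂, e₂⟩ := conjy g (ha.tail hg) ((hg.2.2.symm.mul_right cgb).mul_right cgc)
  have e : w₂⁻¹ * w₁ * a * (w₂⁻¹ * w₁)⁻¹ = g := by
    calc _ = w₂⁻¹ * (w₁ * a * w₁⁻¹) * w₂ := by group
      _ = w₂⁻¹ * (w₂ * g * w₂⁻¹) * w₂ := by rw [e₁, e₂]
      _ = g := by group
  have hx := comp_stab h ho ha (g := w₂⁻¹ * w₁) (by rw [e]; exact ha.tail hg)
  have hgmem := hsix _ hx (c₂.inv_left.mul_left c₁)
  rw [e] at hgmem
  apply hqn
  simp only [List.mem_cons, List.not_mem_nil, or_false] at hgmem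
  simp only [Finset.mem_insert, Finset.mem_singleton]
  rcases hgmem with e' | e' | e' | e' | e' | e'
  · exact absurd e' hg.2.1
  · exact Or.inl (by subst e'; rfl)
  · exact Or.inr (Or.inl (by subst e'; rfl))
  · exact Or.inr (Or.inr (Or.inl (by subst e'; rfl)))
  · exact Or.inr (Or.inr (Or.inr (Or.inl (by subst e'; rfl))))
  · exact Or.inr (Or.inr (Or.inr (Or.inr (by subst e'; rfl))))

/-- The component is the class. -/
theorem comp_all {o : G} (ho : o ∈ conjugatesOf d) :
    Comp d o = conjugatesOf d ∧ Subgroup.closure (Comp d o) = ⊤ := by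
  have key : Comp d o = conjugatesOf d := by
    refine Set.Subset.antisymm (fun x hx => comp_mem ho hx) fun y hy => ?_
    by_contra hyn
    obtain ⟨q, hq⟩ : ∃ q, q ∈ Db (conjugatesOf d) o := by
      obtain ⟨u, hu, -⟩ := (u6Facts (loc_u6 h ho) (loc_group h ho)).pair
      exact ⟨u, hu⟩
    obtain ⟨b, hb, rfl⟩ := exists_bar hq
    have oy := (cen_of_mem h hy).ord
    have hne : o * b ≠ 1 := fun e => hb.2.1 (by
      rw [← inv_eq_of_mul_eq_one_right e, invol_inv (cen_of_mem h ho).ord])
    have ox : orderOf (o * b) = 2 := by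
      refine CfsgLib.Invol.invol_of_mul_self ?_ hne
      rw [show o * b * (o * b) = o * (b * o) * b by group, ← hb.2.2.eq,
        show o * (o * b) * b = o * o * (b * b) by group, loc_sq h ho, loc_sq h hb.1, one_mul]
    by_cases hodd : Odd (orderOf (o * b * y))
    · refine pair_not_mem h ho hb ?_
      exact (show IsConj d y from hy).trans (isConj_of_odd ox oy hodd).symm
    rw [Nat.not_odd_iff_even] at hodd
    obtain ⟨k, ek⟩ : ∃ k, k = (o * b * y) ^ (orderOf (o * b * y) / 2) := ⟨_, rfl⟩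
    have ok : orderOf k = 2 := ek ▸ orderOf_pow_half hodd
    have ckx : Commute k (o * b) := ek ▸ commute_pow_half_left ox oy hodd
    have cky : Commute k y := ek ▸ commute_pow_half_right ox oy hodd
    have hk := pair_centralizer h ho Relation.ReflTransGen.refl hb ckx
    obtain ⟨m, l, h1, h3, ⟨hn, hlen, hmem, hco, hpr⟩⟩ := m22_invol (comp_group h ho) (comp_prim h ho)
      (comp_m22 h ho) (x := ⟨k, hk⟩) (fun e => invol_ne_one ok (congrArg Subtype.val e))
      (Subtype.ext (invol_mul_self ok))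
    have hmk : ∀ {u v : ↥(Subgroup.closure (Comp d o))}, u ∈ l → v ∈ l → v ≠ u →
        (v : G) ∈ nbrs (conjugatesOf d) u := fun hu hv hne =>
      ⟨comp_mem ho (hmem _ hv), fun e => hne (Subtype.ext e),
        (hco _ hu _ hv).map (Subgroup.closure (Comp d o)).subtype⟩
    obtain rfl | rfl | rfl : m = 1 ∨ m = 2 ∨ m = 3 := by omega
    · obtain ⟨u, rfl⟩ := List.length_eq_one_iff.1 hlen
      have e : (u : G) = k := by
        have := congrArg Subtype.val hpr
        simpa using this
      exact hyn (comp_comm (hmem u (by simp)) hy (e ▸ cky))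
    · obtain ⟨u, v, rfl⟩ := List.length_eq_two.1 hlen
      have hne : v ≠ u := by simpa [eq_comm] using hn
      have e : (u : G) * v = k := by
        have := congrArg Subtype.val hpr
        simpa using this
      have hu : (u : G) ∈ Comp d o := hmem u (by simp)
      have hyH := pair_centralizer h ho hu (hmk (by simp) (by simp) hne) (e.symm ▸ cky.symm)
      obtain ⟨w, hw, cw⟩ := m22_fixed (comp_group h ho) (comp_prim h ho) (comp_m22 h ho)
        (x := ⟨y, hyH⟩) (Subtype.ext (loc_sq h hy))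
      exact hyn (comp_comm hw hy (cw.map (Subgroup.closure (Comp d o)).subtype).symm)
    · obtain ⟨u, v, w, rfl⟩ := List.length_eq_three.1 hlen
      simp only [List.nodup_cons, List.mem_cons, List.not_mem_nil, or_false, not_or] at hn
      have e : (u : G) * v * w = k := by
        have := congrArg Subtype.val hpr
        simpa [mul_assoc] using this
      exact hyn (triple_mem h ho (hmem u (by simp)) (hmk (by simp) (by simp) (Ne.symm hn.1.1))
        (hmk (by simp) (by simp) (Ne.symm hn.1.2)) (fun e' => hn.2.1 (Subtype.ext e'))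
        ((hco v (by simp) w (by simp)).map (Subgroup.closure (Comp d o)).subtype) hy
        (e.symm ▸ cky.symm))
  refine ⟨key, eq_top_iff.2 fun g _ => comp_stab h ho Relation.ReflTransGen.refl ?_⟩
  rw [key]; exact conj_mem g ho

/-- The class is a class of 3-transpositions of type M(22). -/
theorem class_m22 :
    Cfsg.IsThreeTranspositionClass (conjugatesOf d) ∧ Cfsg.IsOfTypeM22 G (conjugatesOf d) ∧
      Nonempty (G ≃* ↥(Subgroup.closure (Comp d d))) := by
  obtain ⟨hC, hH⟩ := comp_all h (mem_conjugatesOf_self (a := d))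
  let e : ↥(Subgroup.closure (Comp d d)) ≃* G :=
    (MulEquiv.subgroupCongr hH).trans Subgroup.topEquiv
  refine ⟨⟨?_, ⟨d, mem_conjugatesOf_self, rfl⟩, ?_⟩,
    m22_congr e ?_ (comp_m22 h mem_conjugatesOf_self), ⟨e.symm⟩⟩
  · exact hC ▸ comp_set h mem_conjugatesOf_self
  · rw [← hC, hH]
  · ext x
    refine ⟨fun ⟨u, hu, e'⟩ => e' ▸ hC ▸ hu, fun hx => ?_⟩
    have hx' : x ∈ Comp d d := hC.symm ▸ hx
    exact ⟨⟨x, Subgroup.subset_closure hx'⟩, hx', rfl⟩

end CfsgLib.InvChar.Fi22Inv
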