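import Cfsg.Agent.Lib.InvChar.Fi22Inv.Loc
import Cfsg.Agent.Lib.Trans3.Fi.U6Config
import Cfsg.Agent.Lib.Trans3.Fi.Lvl
import Cfsg.Agent.Lib.Trans3.RankThree

/-!
A component of the commuting graph on the conjugates of the involution: any two members are at
distance at most two, so it is a class of 3-transpositions of the subgroup it generates, and this
subgroup acts primitively on it.
-/

set_option autoImplicit false
set_option linter.unusedSectionVars false

namespace CfsgLib.InvChar.Fi22Inv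

open CfsgLib.Trans3 CfsgLib.Trans3.Fi

/-- A member commuting with `b` and not with `y`, other than `b`. -/
theorem line_perp {X : Type*} [Group X] {D : Set X} (hF : U6Facts D) {b u y : X} (hb : b ∈ D)
    (hu : u ∈ D) (hy : y ∈ D) (hbu : b ≠ u) (cbu : Commute b u) (cyu : Commute y u)
    (nyb : ¬ Commute y b) :
    ∃ t ∈ D, t ≠ b ∧ Commute t b ∧ Commute t u ∧ ¬ Commute y t := by
  obtain ⟨t₁, t₂, t₃, ⟨hnd, hmem, hco, hpr⟩, huniq⟩ := hF.line b u hb hu hbu cbu
  have hne : t₁ ≠ b ∧ t₁ ≠ u := by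
    simp only [List.nodup_cons, List.mem_cons, List.not_mem_nil, or_false, not_or] at hnd
    exact ⟨fun e => hnd.1.2.1 e.symm, fun e => hnd.2.1.1 e.symm⟩
  refine ⟨t₁, hmem t₁ (by simp), hne.1, hco t₁ (by simp) b (by simp), hco t₁ (by simp) u (by simp),
    fun cy => ?_⟩
  obtain ⟨T₁, T₂, T₃, ⟨hnd', hmem', hco', hpr'⟩, huniq'⟩ :=
    hF.line t₁ u (hmem t₁ (by simp)) hu hne.2 (hco t₁ (by simp) u (by simp))
  have e1 : MulAut.conj y t₁ = t₁ := conj_eq_of_commute cy
  have e2 : MulAut.conj y u = u := conj_eq_of_commute cyu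
  -- the line through `t₁` and `u` contains `b`
  have hperm : [t₁, u, b, t₂, t₃].Perm [b, u, t₁, t₂, t₃] := by
    refine (List.Perm.swap u t₁ _).trans (List.Perm.trans ?_ (List.Perm.swap b u _))
    exact List.Perm.cons u (List.Perm.swap b t₁ _)
  have hl : [t₁, u, b, t₂, t₃].Nodup ∧ (∀ a ∈ [t₁, u, b, t₂, t₃], a ∈ D) ∧
      (∀ a ∈ [t₁, u, b, t₂, t₃], ∀ a' ∈ [t₁, u, b, t₂, t₃], Commute a a') ∧
      [t₁, u, b, t₂, t₃].prod = 1 := by
    refine ⟨hperm.nodup_iff.2 hnd, fun a ha => hmem a (hperm.mem_iff.1 ha),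
      fun a ha a' ha' => hco a (hperm.mem_iff.1 ha) a' (hperm.mem_iff.1 ha'), ?_⟩
    rw [hperm.prod_eq' ?_, hpr]
    exact List.Pairwise.imp_of_mem (fun {a c} ha hc _ => hco a (hperm.mem_iff.1 ha) c (hperm.mem_iff.1 hc))
      (List.pairwise_of_forall (R := fun _ _ => True) fun _ _ => trivial)
  obtain ⟨h1, h2, h3, h4⟩ := hl
  have hA := huniq' b t₂ t₃ h1 h2 h3 h4
  have emap : [t₁, u, b, t₂, t₃].map (MulAut.conj y) =
      [t₁, u, MulAut.conj y b, MulAut.conj y t₂, MulAut.conj y t₃] := by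
    simp only [List.map_cons, List.map_nil, e1, e2]
  have hB := huniq' (MulAut.conj y b) (MulAut.conj y t₂) (MulAut.conj y t₃)
    (emap ▸ h1.map (MulAut.conj y).injective)
    (emap ▸ fun x hx => by
      obtain ⟨w, hw, rfl⟩ := List.mem_map.1 hx
      exact hF.group.2.1 y w (h2 w hw))
    (emap ▸ fun x hx x' hx' => by
      obtain ⟨w, hw, rfl⟩ := List.mem_map.1 hx
      obtain ⟨w', hw', rfl⟩ := List.mem_map.1 hx'
      exact (h3 w hw w' hw').map _)
    (by rw [← emap, ← map_list_prod, h4, map_one])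
  have hmem3 : MulAut.conj y b ∈ [b, t₂, t₃] :=
    (hA _).2 ((hB _).1 List.mem_cons_self)
  have hc : Commute b (y * b * y⁻¹) := h3 b (by simp) _ (List.mem_cons_of_mem _ (List.mem_cons_of_mem _ hmem3))
  rw [inv_eq hF.group.1 hy, braid hF.group.1 hy hb nyb] at hc
  have h5 := conj_eq_of_commute hc
  rw [inv_eq hF.group.1 hb, show b * (b * y * b) * b = (b * b) * y * (b * b) by group,
    Trans3.sq_one hF.group.1 hb, one_mul, mul_one] at h5
  exact nyb (h5 ▸ hc.symm)

variable {G : Type*} [Group G] [Finite G] {d : G}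

/-- Adjacency in the commuting graph. -/
def Adj (d a b : G) : Prop := b ∈ nbrs (conjugatesOf d) a

/-- The component of `a`. -/
def Comp (d a : G) : Set G := {x | Relation.ReflTransGen (Adj d) a x}

theorem adj_symm {a b : G} (ha : a ∈ conjugatesOf d) (h : Adj d a b) : Adj d b a :=
  ⟨ha, h.2.1.symm, h.2.2.symm⟩

theorem comp_mem {a x : G} (ha : a ∈ conjugatesOf d) (hx : x ∈ Comp d a) : x ∈ conjugatesOf d := by
  induction hx with
  | refl => exact ha
  | tail _ h _ => exact h.1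

theorem comp_symm {a x : G} (ha : a ∈ conjugatesOf d) (hx : x ∈ Comp d a) : a ∈ Comp d x := by
  induction hx with
  | refl => exact .refl
  | tail hab h ih => exact .head (adj_symm (comp_mem ha hab) h) ih

theorem adj_conj (g : G) {a b : G} (h : Adj d a b) : Adj d (g * a * g⁻¹) (g * b * g⁻¹) :=
  ⟨conj_mem g h.1, fun e => h.2.1 (mul_left_cancel (mul_right_cancel e)),
    (commute_conj_iff g a b).2 h.2.2⟩

theorem comp_conj (g : G) {a x : G} (hx : x ∈ Comp d a) : g * x * g⁻¹ ∈ Comp d (g * a * g⁻¹) := by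
  induction hx with
  | refl => exact .refl
  | tail _ h ih => exact .tail ih (adj_conj g h)

variable (h : Cen d)
include h

/-- Two non-commuting neighbours of a member: the neighbours they share meet the neighbourhood of
every further neighbour of one of them. -/
theorem link {a b c e : G} (hb : b ∈ conjugatesOf d) (hab : a ∈ nbrs (conjugatesOf d) b)
    (hcb : c ∈ nbrs (conjugatesOf d) b) (hac : ¬ Commute a c) (he : e ∈ nbrs (conjugatesOf d) c) :
    ∃ y, y ∈ nbrs (conjugatesOf d) a ∧ y ∈ nbrs (conjugatesOf d) c ∧ Commute y e := by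
  by_contra! hall
  obtain ⟨qA, qB, qC, qE, hq⟩ := u6_quad (loc_u6 h hb) (loc_group h hb) (bar_mem hab) (bar_mem hcb)
    fun e => hac ((loc_commute h hb hab hcb).1 e)
  have hc : c ∈ conjugatesOf d := hcb.1
  have get : ∀ q ∈ [qA, qB, qC, qE], ∃ x, ∃ hx : x ∈ nbrs (conjugatesOf d) b, q = bar hx ∧
      x ∈ nbrs (conjugatesOf d) a ∧ x ∈ nbrs (conjugatesOf d) c ∧ ¬ Commute x e := by
    intro q hq'
    obtain ⟨m, c1, c2⟩ := hq.mem q hq'
    obtain ⟨x, hx, rfl⟩ := exists_bar m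
    rw [loc_commute h hb hab hx] at c1
    rw [loc_commute h hb hcb hx] at c2
    have na : x ∈ nbrs (conjugatesOf d) a := ⟨hx.1, fun e' => hac (e' ▸ c2.symm), c1⟩
    have nc : x ∈ nbrs (conjugatesOf d) c := ⟨hx.1, fun e' => hac (e' ▸ c1), c2⟩
    exact ⟨x, hx, rfl, na, nc, hall x na nc⟩
  obtain ⟨A, hA, rfl, aA, cA, bA⟩ := get qA (by simp)
  obtain ⟨B, hB, rfl, aB, cB, bB⟩ := get qB (by simp)
  obtain ⟨C, hC, rfl, aC, cC, bC⟩ := get qC (by simp)
  obtain ⟨E, hE, rfl, aE, cE, bE⟩ := get qE (by simp)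
  have n1 : ∀ {u : G} (hu : u ∈ nbrs (conjugatesOf d) c), ¬ Commute u e →
      ¬ Commute (bar hu) (bar he) := fun hu e' e'' => e' ((loc_commute h hc hu he).1 e'')
  have n2 : ∀ {u v : G} (hu : u ∈ nbrs (conjugatesOf d) b) (hv : v ∈ nbrs (conjugatesOf d) b)
      (hu' : u ∈ nbrs (conjugatesOf d) c) (hv' : v ∈ nbrs (conjugatesOf d) c),
      ¬ Commute (bar hu) (bar hv) → ¬ Commute (bar hu') (bar hv') :=
    fun hu hv hu' hv' e' e'' => e' ((loc_commute h hb hu hv).2 ((loc_commute h hc hu' hv').1 e''))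
  have n3 : ∀ {u v w : G} (hu : u ∈ nbrs (conjugatesOf d) b) (hv : v ∈ nbrs (conjugatesOf d) b)
      (hw : w ∈ nbrs (conjugatesOf d) b) (hu' : u ∈ nbrs (conjugatesOf d) c)
      (hv' : v ∈ nbrs (conjugatesOf d) c) (hw' : w ∈ nbrs (conjugatesOf d) c),
      Commute (bar hu * bar hv * bar hu) (bar hw) →
      Commute (bar hu' * bar hv' * bar hu') (bar hw') := by
    intro u v w hu hv hw hu' hv' hw' e'
    obtain ⟨m, em⟩ := loc_third h hb hu hv
    obtain ⟨m', em'⟩ := loc_third h hc hu' hv'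
    rw [← em, loc_commute h hb m hw] at e'
    rw [← em', loc_commute h hc m' hw']; exact e'
  have n4 : ∀ {u v : G} (hu : u ∈ nbrs (conjugatesOf d) c) (hv : v ∈ nbrs (conjugatesOf d) c),
      u ∈ nbrs (conjugatesOf d) a → v ∈ nbrs (conjugatesOf d) a →
      ¬ Commute (bar hu * bar hv * bar hu) (bar he) := by
    intro u v hu hv au av e'
    obtain ⟨m, em⟩ := loc_third h hc hu hv
    rw [← em, loc_commute h hc m he] at e'
    obtain ⟨m', -⟩ := loc_third h hab.1 au av
    exact hall _ m' m e'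
  refine u6_no_bad (loc_u6 h hc) (loc_group h hc) (bar_mem he) (a := 1) (c := 1)
    (A := bar cA) (B := bar cB) (C := bar cC) (E := bar cE)
    ⟨?_, n2 hA hB cA cB hq.ab, n2 hA hC cA cC hq.ac, n2 hA hE cA cE hq.ae, n2 hB hC cB cC hq.bc,
      n2 hB hE cB cE hq.be, n2 hC hE cC cE hq.ce, n3 hA hB hC cA cB cC hq.t₁,
      n3 hA hB hE cA cB cE hq.t₂, n3 hA hC hE cA cC cE hq.t₃⟩
    (n1 cA bA) (n1 cB bB) (n1 cC bC) (n1 cE bE) (n4 cA cB aA aB) (n4 cA cC aA aC)
    (n4 cA cE aA aE) (n4 cB cC aB aC) (n4 cB cE aB aE) (n4 cC cE aC aE)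
  intro x hx
  simp only [List.mem_cons, List.not_mem_nil, or_false] at hx
  refine ⟨?_, Commute.one_left x, Commute.one_left x⟩
  rcases hx with rfl | rfl | rfl | rfl <;> exact bar_mem _

/-- A further member commuting with two adjacent members. -/
theorem exists_third {a b : G} (ha : a ∈ conjugatesOf d) (hb : b ∈ nbrs (conjugatesOf d) a) :
    ∃ x, x ∈ nbrs (conjugatesOf d) a ∧ x ∈ nbrs (conjugatesOf d) b := by
  obtain ⟨q, hq, qne, qb, -, -⟩ := u6_mid (loc_u6 h ha) (loc_group h ha) (bar_mem hb) (bar_mem hb)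
    (bar_mem hb) (Commute.refl _) (Commute.refl _)
  obtain ⟨x, hx, rfl⟩ := exists_bar hq
  exact ⟨x, hx, hx.1, fun e => qne (by subst e; rfl), ((loc_commute h ha hx hb).1 qb).symm⟩

/-- Distance at most two. -/
theorem comp_two {a x : G} (ha : a ∈ conjugatesOf d) (hx : x ∈ Comp d a) :
    x = a ∨ Adj d a x ∨ ∃ b, Adj d a b ∧ Adj d b x := by
  induction hx with
  | refl => exact Or.inl rfl
  | @tail c e hac hce ih =>
    rcases ih with rfl | h1 | ⟨b, hab, hbc⟩
    · exact Or.inr (Or.inl hce)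
    · exact Or.inr (Or.inr ⟨c, h1, hce⟩)
    by_cases hca : c = a
    · subst hca; exact Or.inr (Or.inl hce)
    by_cases cac : Commute a c
    · exact Or.inr (Or.inr ⟨c, ⟨hbc.1, hca, cac⟩, hce⟩)
    obtain ⟨y, hya, hyc, hye⟩ := link h hab.1 (adj_symm ha hab) hbc cac hce
    by_cases e' : y = e
    · exact Or.inr (Or.inl (e' ▸ hya))
    · exact Or.inr (Or.inr ⟨y, hya, hce.1, Ne.symm e', hye⟩)

theorem comp_prod {a x y : G} (ha : a ∈ conjugatesOf d) (hx : x ∈ Comp d a) (hy : y ∈ Comp d a) :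
    (x * y) ^ 2 = 1 ∨ (x * y) ^ 3 = 1 := by
  have hxm := comp_mem ha hx
  rcases comp_two h hxm ((comp_symm ha hx).trans hy) with rfl | e | ⟨b, hxb, hby⟩
  · left; rw [invol_mul_self (cen_of_mem h hxm).ord, one_pow]
  · left
    rw [e.2.2.mul_pow, pow_two, pow_two, invol_mul_self (cen_of_mem h hxm).ord,
      invol_mul_self (cen_of_mem h e.1).ord, one_mul]
  · exact loc_prod h hxb.1 (adj_symm hxm hxb) hby

theorem comp_centralizer {a x : G} (ha : a ∈ conjugatesOf d) (hx : x ∈ Comp d a) :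
    Subgroup.centralizer ({x} : Set G) ≤ Subgroup.closure (Comp d a) := by
  rw [← loc_Hd h (comp_mem ha hx)]
  exact Subgroup.closure_mono fun y hy => Relation.ReflTransGen.tail hx hy

theorem comp_stable {a g x : G} (ha : a ∈ conjugatesOf d) (hg : g ∈ Subgroup.closure (Comp d a))
    (hx : x ∈ Comp d a) : g * x * g⁻¹ ∈ Comp d a := by
  induction hg using Subgroup.closure_induction_left generalizing x with
  | one => simpa using hx
  | mul_left u hu v _ ih =>
    have h2 := comp_conj u ((comp_symm ha hu).trans (ih hx))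
    rw [show u * u * u⁻¹ = u by group] at h2
    rw [show u * v * x * (u * v)⁻¹ = u * (v * x * v⁻¹) * u⁻¹ by group]
    exact hu.trans h2
  | inv_mul_cancel u hu v _ ih =>
    have h2 := comp_conj u⁻¹ ((comp_symm ha hu).trans (ih hx))
    rw [show u⁻¹ * u * u⁻¹⁻¹ = u by group] at h2
    rw [show u⁻¹ * v * x * (u⁻¹ * v)⁻¹ = u⁻¹ * (v * x * v⁻¹) * u⁻¹⁻¹ by group]
    exact hu.trans h2

theorem comp_trans {a x y : G} (ha : a ∈ conjugatesOf d) (hx : x ∈ Comp d a) (hy : y ∈ Comp d a) :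
    ∃ g ∈ Subgroup.closure (Comp d a), g * x * g⁻¹ = y := by
  have key : ∀ z ∈ Comp d a, ∃ g ∈ Subgroup.closure (Comp d a), g * a * g⁻¹ = z := by
    intro z hz
    induction hz with
    | refl => exact ⟨1, one_mem _, by group⟩
    | @tail u v hau huv ih =>
      obtain ⟨g, hg, rfl⟩ := ih
      obtain ⟨w, hwu, hwv⟩ := exists_third h (comp_mem ha hau) huv
      obtain ⟨q, hq⟩ := (u6Facts (loc_u6 h hwu.1) (loc_group h hwu.1)).conj _
        (bar_mem (adj_symm (comp_mem ha hau) hwu)) _ (bar_mem (adj_symm huv.1 hwv))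
      obtain ⟨k, rfl⟩ := QuotientGroup.mk_surjective q
      refine ⟨(k : G) * g, mul_mem (comp_centralizer h ha (Relation.ReflTransGen.tail hau hwu)
        (loc_Hd h hwu.1 ▸ k.2)) hg, ?_⟩
      rw [← loc_conj_bar h hwu.1 _ _ k hq]
      group
  obtain ⟨g, hg, rfl⟩ := key x hx
  obtain ⟨k, hk, rfl⟩ := key y hy
  exact ⟨k * g⁻¹, mul_mem hk (inv_mem hg), by group⟩

/-- A member not commuting with `a` in the component of `a`. -/
theorem exists_opposite {a : G} (ha : a ∈ conjugatesOf d) :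
    ∃ c ∈ Comp d a, ¬ Commute a c := by
  obtain ⟨q, hq⟩ : ∃ q, q ∈ Db (conjugatesOf d) a := by
    obtain ⟨u, hu, -⟩ := (u6Facts (loc_u6 h ha) (loc_group h ha)).pair
    exact ⟨u, hu⟩
  obtain ⟨b, hb, rfl⟩ := exists_bar hq
  by_contra! hall
  have hF := u6Facts (loc_u6 h hb.1) (loc_group h hb.1)
  have hz : bar (adj_symm ha hb) ∈ Subgroup.center (Qd (conjugatesOf d) b) := by
    rw [Subgroup.mem_center_iff]
    intro w
    have : w ∈ Subgroup.closure (Db (conjugatesOf d) b) := hF.group.2.2 ▸ Subgroup.mem_top w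
    induction this using Subgroup.closure_induction with
    | mem v hv =>
      obtain ⟨c, hc, rfl⟩ := exists_bar hv
      exact ((loc_commute h hb.1 hc (adj_symm ha hb)).2
        (hall c (.tail (.tail .refl hb) hc)).symm).eq
    | one => simp
    | mul u v _ _ h1 h2 => exact (Commute.mul_left h1 h2).eq
    | inv u _ h1 => exact (Commute.inv_left h1).eq
  rw [hF.center, Subgroup.mem_bot] at hz
  exact invol_ne_one (hF.group.1.1 _ (bar_mem (adj_symm ha hb))) hz

/-- Primitivity inside the group of the component. -/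
theorem comp_block {a : G} (ha : a ∈ conjugatesOf d) {B : Set G} (hB : B ⊆ Comp d a)
    (hblock : ∀ g ∈ Subgroup.closure (Comp d a),
      (fun x => g * x * g⁻¹) '' B = B ∨ Disjoint ((fun x => g * x * g⁻¹) '' B) B)
    (h2 : ¬ B.Subsingleton) : B = Comp d a := by
  -- conjugation fixing a point of the block
  have hfix : ∀ g ∈ Subgroup.closure (Comp d a), ∀ u ∈ B, g * u * g⁻¹ = u → ∀ v ∈ B,
      g * v * g⁻¹ ∈ B := by
    intro g hg u hu e v hv
    rcases hblock g hg with e' | e'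
    · exact e' ▸ ⟨v, hv, rfl⟩
    · exact absurd (Set.disjoint_left.1 e' ⟨u, hu, e⟩ hu) id
  -- an adjacent pair spreads
  have spread : ∀ u ∈ B, ∀ v ∈ B, Adj d u v → ∀ w, Adj d u w → w ∈ B := by
    intro u hu v hv huv w huw
    have hum := comp_mem ha (hB hu)
    obtain ⟨q, hq⟩ := (u6Facts (loc_u6 h hum) (loc_group h hum)).conj _ (bar_mem huv) _ (bar_mem huw)
    obtain ⟨k, rfl⟩ := QuotientGroup.mk_surjective q
    rw [← loc_conj_bar h hum _ _ k hq]
    refine hfix _ (comp_centralizer h ha (hB hu) (loc_Hd h hum ▸ k.2)) u hu ?_ v hv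
    exact conj_eq_of_commute (commute_Hd k.2).symm
  have full : ∀ u ∈ B, ∀ v ∈ B, Adj d u v → B = Comp d a := by
    intro u hu v hv huv
    refine hB.antisymm fun x hx => ?_
    have hum := comp_mem ha (hB hu)
    suffices x ∈ B ∧ ∀ w, Adj d x w → w ∈ B from this.1
    have hux : x ∈ Comp d u := (comp_symm ha (hB hu)).trans hx
    clear hx
    induction hux with
    | refl => exact ⟨hu, spread u hu v hv huv⟩
    | @tail p q hup hpq ih =>
      have hq := ih.2 q hpq
      exact ⟨hq, spread q hq p ih.1 (adj_symm (comp_mem hum hup) hpq)⟩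
  obtain ⟨u, hu, v, hv, hne⟩ : ∃ u ∈ B, ∃ v ∈ B, u ≠ v := by
    simpa [Set.Subsingleton] using h2
  have hum := comp_mem ha (hB hu)
  rcases comp_two h hum ((comp_symm ha (hB hu)).trans (hB hv)) with e | e | ⟨g, hug, hgv⟩
  · exact absurd e.symm hne
  · exact full u hu v hv e
  by_cases cuv : Commute u v
  · exact full u hu v hv ⟨hgv.1, hne.symm, cuv⟩
  have hgm := hug.1
  have hF := u6Facts (loc_u6 h hgm) (loc_group h hgm)
  have hgu := adj_symm hum hug
  have nuv : ¬ Commute (bar hgu) (bar hgv) := fun e => cuv ((loc_commute h hgm hgu hgv).1 e)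
  obtain ⟨q, hq, qv, cqu⟩ : ∃ q ∈ Db (conjugatesOf d) g, q ≠ bar hgv ∧
      Commute q (bar hgv) ∧ ¬ Commute (bar hgu) q := by
    obtain ⟨r, hr, rv, crv, -, -⟩ := u6_mid (loc_u6 h hgm) (loc_group h hgm) (bar_mem hgv)
      (bar_mem hgv) (bar_mem hgv) (Commute.refl _) (Commute.refl _)
    by_cases cr : Commute (bar hgu) r
    · obtain ⟨t, ht, t1, t2, -, t4⟩ := line_perp hF (bar_mem hgv) hr (bar_mem hgu) (Ne.symm rv)
        crv.symm cr nuv
      exact ⟨t, ht, t1, t2, t4⟩
    · exact ⟨r, hr, rv, crv, cr⟩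
  obtain ⟨t, ht, rfl⟩ := exists_bar hq
  have hL := lvl_u6 (loc_u6 h hgm) (loc_group h hgm)
  obtain ⟨g', hg1, hg2⟩ := trans_noncomm (loc_group h hgm) hL.prim hL.pairc (bar_mem hgu)
    (bar_mem hgv) nuv (bar_mem ht) cqu.2
  obtain ⟨k, rfl⟩ := QuotientGroup.mk_surjective g'
  have k1 := loc_conj_bar h hgm hgu hgu k hg1
  have k2 := loc_conj_bar h hgm hgv ht k hg2
  have htB : t ∈ B := k2 ▸ hfix _ (comp_centralizer h ha ((hB hu).tail hug)
    (loc_Hd h hgm ▸ k.2)) u hu k1 v hv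
  refine full v hv t htB ⟨ht.1, fun e => qv (by subst e; rfl), ?_⟩
  exact ((loc_commute h hgm ht hgv).1 cqu.1).symm

end CfsgLib.InvChar.Fi22Inv
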