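import Cfsg.Agent.Lib.InvChar.Fi22Inv.HexCheck
import Cfsg.Agent.Lib.Trans3.Fi.U6Config
import Cfsg.Agent.Lib.Trans3.Fi.U6Semi

/-!
Coded coordinates of transvections with respect to a hyperbolic basis of the unitary space.
-/

set_option autoImplicit false
set_option linter.unusedSectionVars false

namespace CfsgLib.InvChar.Fi22Inv

open CfsgLib.Trans3 CfsgLib.Trans3.Fi CfsgLib.InvChar.Fi22Inv.Data

variable {F : Type*} [Field F] [Fintype F]

theorem dig_eq (v i : Nat) : dig v i = v / 4 ^ i % 4 := by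
  rw [dig, Nat.shiftRight_eq_div_pow, pow_mul, show (3 : Nat) = 2 ^ 2 - 1 from rfl,
    Nat.and_two_pow_sub_one_eq_mod]
  norm_num

theorem dig_lt (v i : Nat) : dig v i < 4 := by
  rw [dig_eq]; exact Nat.mod_lt _ (by norm_num)

theorem dig_xor (v w i : Nat) : dig (v ^^^ w) i = dig v i ^^^ dig w i := by
  simp only [dig, Nat.shiftRight_xor_distrib, Nat.and_xor_distrib_right]

theorem mul4_lt {a b : Nat} : mul4 a b < 4 := by
  rw [mul4, show (3 : Nat) = 2 ^ 2 - 1 from rfl, Nat.and_two_pow_sub_one_eq_mod]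
  exact Nat.mod_lt _ (by norm_num)

theorem dig_scal (c v : Nat) {i : Nat} (hi : i < 6) : dig (scal c v) i = mul4 c (dig v i) := by
  have h : ∀ k, mul4 c (dig v k) < 4 := fun _ => mul4_lt
  have h0 := h 0; have h1 := h 1; have h2 := h 2; have h3 := h 3; have h4 := h 4; have h5 := h 5
  rw [dig_eq, scal]
  interval_cases i <;> norm_num <;> omega

theorem conj4_lt {a : Nat} : conj4 a < 4 := mul4_lt

theorem scal_lt (c v : Nat) : scal c v < 4096 := by
  have h : ∀ k, mul4 c (dig v k) < 4 := fun _ => mul4_lt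
  have h0 := h 0; have h1 := h 1; have h2 := h 2; have h3 := h 3; have h4 := h 4; have h5 := h 5
  rw [scal]
  omega

theorem tvc_lt {p x : Nat} (hx : x < 4096) : tvc p x < 4096 :=
  Nat.xor_lt_two_pow (n := 12) hx (scal_lt _ _)

theorem fin6_twice : ∀ i : Fin 6, i + 3 + 3 = i := by decide

theorem fin6_shift : ∀ i j : Fin 6, i ≠ j + 3 → j ≠ i + 3 := by decide

/-- The element coded by a digit. -/
def iota (ω : F) : Nat → F
  | 1 => 1
  | 2 => ω
  | 3 => ω + 1
  | _ => 0

/-- The vector coded by six digits. -/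
def phi (ω : F) (b : Fin 6 → Fin 6 → F) (v : Nat) : Fin 6 → F :=
  ∑ i : Fin 6, iota ω (dig v i) • b i

variable (hF : Fintype.card F = 2 ^ 2) {ω : F} (hω : ω + ω ^ 2 = 1)
include hF hω

theorem omega_sq : ω ^ 2 = ω + 1 := by linear_combination hω - add_self hF ω

theorem iota_xor : ∀ {a c : Nat}, a < 4 → c < 4 → iota ω (a ^^^ c) = iota ω a + iota ω c := by
  have h := add_self hF
  intro a c ha hc
  interval_cases a <;> interval_cases c <;>
    simp only [show 0 ^^^ 0 = 0 from rfl, show 0 ^^^ 1 = 1 from rfl, show 0 ^^^ 2 = 2 from rfl, show 0 ^^^ 3 = 3 from rfl, show 1 ^^^ 0 = 1 from rfl, show 1 ^^^ 1 = 0 from rfl, show 1 ^^^ 2 = 3 from rfl, show 1 ^^^ 3 = 2 from rfl, show 2 ^^^ 0 = 2 from rfl, show 2 ^^^ 1 = 3 from rfl, show 2 ^^^ 2 = 0 from rfl, show 2 ^^^ 3 = 1 from rfl, show 3 ^^^ 0 = 3 from rfl, show 3 ^^^ 1 = 2 from rfl, show 3 ^^^ 2 = 1 from rfl, show 3 ^^^ 3 = 0 from rfl, iota] <;>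
    first
      | ring1
      | linear_combination h 1
      | linear_combination -h 1
      | linear_combination h ω
      | linear_combination -h ω
      | linear_combination h (ω + 1)
      | linear_combination -h (ω + 1)

theorem iota_mul : ∀ {a c : Nat}, a < 4 → c < 4 → iota ω (mul4 a c) = iota ω a * iota ω c := by
  have h := add_self hF
  have w2 := omega_sq hF hω
  intro a c ha hc
  interval_cases a <;> interval_cases c <;>
    simp only [show mul4 0 0 = 0 by decide +kernel, show mul4 0 1 = 0 by decide +kernel,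
      show mul4 0 2 = 0 by decide +kernel, show mul4 0 3 = 0 by decide +kernel,
      show mul4 1 0 = 0 by decide +kernel, show mul4 1 1 = 1 by decide +kernel,
      show mul4 1 2 = 2 by decide +kernel, show mul4 1 3 = 3 by decide +kernel,
      show mul4 2 0 = 0 by decide +kernel, show mul4 2 1 = 2 by decide +kernel,
      show mul4 2 2 = 3 by decide +kernel, show mul4 2 3 = 1 by decide +kernel,
      show mul4 3 0 = 0 by decide +kernel, show mul4 3 1 = 3 by decide +kernel,
      show mul4 3 2 = 1 by decide +kernel, show mul4 3 3 = 2 by decide +kernel, iota] <;>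
    first
      | ring1
      | linear_combination -w2
      | linear_combination -w2 - h ω
      | linear_combination -w2 - h (ω + 1)
      | linear_combination -w2 - h ω + h 1
      | linear_combination -w2 - h ω - h 1
      | linear_combination w2 - h 1

theorem iota_conj {a : Nat} (ha : a < 4) : iota ω a ^ 2 = iota ω (conj4 a) := by
  rw [conj4, iota_mul hF hω ha ha, pow_two]

theorem iota_surj (x : F) : ∃ a, a < 4 ∧ iota ω a = x := by
  by_cases h0 : x = 0
  · exact ⟨0, by norm_num, h0.symm⟩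
  by_cases h1 : x = 1
  · exact ⟨1, by norm_num, h1.symm⟩
  have hr := root_of_ne hF h0 h1
  have w2 := omega_sq hF hω
  have h2 := add_self hF (1 : F)
  rcases mul_eq_zero.1 (show (x - ω) * (x - (ω + 1)) = 0 by
    linear_combination hr + w2 - x * ω * h2 - x * h2 + ω * h2) with e | e
  · exact ⟨2, by norm_num, (sub_eq_zero.1 e).symm⟩
  · exact ⟨3, by norm_num, (sub_eq_zero.1 e).symm⟩

theorem iota_eq_zero {a : Nat} (ha : a < 4) (h : iota ω a = 0) : a = 0 := by
  have w2 := omega_sq hF hω
  interval_cases a <;> simp only [iota] at h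
  · rfl
  · exact absurd h one_ne_zero
  · exact absurd (show (1 : F) = 0 by linear_combination -w2 + (ω - 1) * h) one_ne_zero
  · exact absurd (show (1 : F) = 0 by linear_combination w2 - (ω - 2) * h) one_ne_zero

variable {b : Fin 6 → Fin 6 → F}

theorem phi_xor (v w : Nat) : phi ω b (v ^^^ w) = phi ω b v + phi ω b w := by
  simp only [phi, dig_xor, iota_xor hF hω (dig_lt _ _) (dig_lt _ _), add_smul,
    Finset.sum_add_distrib]

theorem phi_scal {c : Nat} (hc : c < 4) (v : Nat) : phi ω b (scal c v) = iota ω c • phi ω b v := by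
  simp only [phi, Finset.smul_sum, smul_smul]
  refine Finset.sum_congr rfl fun i _ => ?_
  rw [dig_scal c v i.isLt, iota_mul hF hω hc (dig_lt _ _)]

variable (hb : ∀ i j : Fin 6, hh (b i) (b j) = if j = i + 3 then 1 else 0)
include hb

theorem hh_basis (c : Fin 6 → F) (j : Fin 6) : hh (∑ i, c i • b i) (b j) = c (j + 3) := by
  have hs : ∀ s : Finset (Fin 6), hh (∑ i ∈ s, c i • b i) (b j) = ∑ i ∈ s, c i * hh (b i) (b j) := by
    intro s
    induction s using Finset.induction_on with
    | empty => simpa using hh_zero_left hF (b j)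
    | insert a s ha ih =>
      rw [Finset.sum_insert ha, Finset.sum_insert ha, hh_add_left hF, hh_smul_left hF, ih]
  rw [hs, Finset.sum_eq_single (j + 3)]
  · rw [hb, if_pos (fin6_twice j).symm, mul_one]
  · intro i _ hi
    rw [hb, if_neg (fin6_shift i j hi), mul_zero]
  · simp

theorem hh_phi (v w : Nat) : hh (phi ω b v) (phi ω b w) = iota ω (herm v w) := by
  have hr : ∀ s : Finset (Fin 6), hh (phi ω b v) (∑ j ∈ s, iota ω (dig w (Fin.val j)) • b j) =
      ∑ j ∈ s, iota ω (dig w (Fin.val j)) ^ 2 * hh (phi ω b v) (b j) := by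
    intro s
    induction s using Finset.induction_on with
    | empty => simpa using hh_zero_right hF (phi ω b v)
    | insert a s ha ih =>
      rw [Finset.sum_insert ha, Finset.sum_insert ha, hh_add_right hF, hh_smul_right hF, ih]
  show hh (phi ω b v) (∑ j : Fin 6, iota ω (dig w j) • b j) = _
  rw [hr]
  have hbase : ∀ j : Fin 6, hh (phi ω b v) (b j) = iota ω (dig v (Fin.val (j + 3))) := fun j =>
    hh_basis hF hω hb (fun i => iota ω (dig v (Fin.val i))) j
  simp only [hbase, iota_conj hF hω (dig_lt _ _), Fin.sum_univ_six, herm]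
  have l : ∀ {a c : Nat}, a < 4 → c < 4 → a ^^^ c < 4 := fun ha hc =>
    Nat.xor_lt_two_pow (n := 2) ha hc
  have m : ∀ {a c : Nat}, mul4 a c < 4 := fun {a c} => mul4_lt
  rw [iota_xor hF hω (l (l (l (l m m) m) m) m) m, iota_xor hF hω (l (l (l m m) m) m) m,
    iota_xor hF hω (l (l m m) m) m, iota_xor hF hω (l m m) m, iota_xor hF hω m m,
    iota_mul hF hω (dig_lt _ _) conj4_lt, iota_mul hF hω (dig_lt _ _) conj4_lt,
    iota_mul hF hω (dig_lt _ _) conj4_lt, iota_mul hF hω (dig_lt _ _) conj4_lt,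
    iota_mul hF hω (dig_lt _ _) conj4_lt, iota_mul hF hω (dig_lt _ _) conj4_lt]
  rw [show ((0 : Fin 6) + 3 : Fin 6) = 3 from rfl, show ((1 : Fin 6) + 3 : Fin 6) = 4 from rfl,
    show ((2 : Fin 6) + 3 : Fin 6) = 5 from rfl, show ((3 : Fin 6) + 3 : Fin 6) = 0 from rfl,
    show ((4 : Fin 6) + 3 : Fin 6) = 1 from rfl, show ((5 : Fin 6) + 3 : Fin 6) = 2 from rfl]
  simp only [Fin.val_zero, Fin.val_one, Fin.val_two, show ((3 : Fin 6) : Nat) = 3 from rfl,
    show ((4 : Fin 6) : Nat) = 4 from rfl, show ((5 : Fin 6) : Nat) = 5 from rfl]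
  ring

theorem phi_tvc (p x : Nat) :
    phi ω b (tvc p x) = phi ω b x + hh (phi ω b x) (phi ω b p) • phi ω b p := by
  rw [hh_phi hF hω hb, tvc, phi_xor hF hω, phi_scal hF hω]
  unfold herm
  exact Nat.xor_lt_two_pow (n := 2) (Nat.xor_lt_two_pow (n := 2) (Nat.xor_lt_two_pow (n := 2)
    (Nat.xor_lt_two_pow (n := 2) (Nat.xor_lt_two_pow (n := 2) mul4_lt mul4_lt) mul4_lt) mul4_lt)
    mul4_lt) mul4_lt

theorem linearIndependent_basis : LinearIndependent F b := by
  refine Fintype.linearIndependent_iff.2 fun c hc i => ?_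
  have h := hh_basis hF hω hb c (i + 3)
  rw [hc, hh_zero_left hF] at h
  have e : i + 3 + 3 = i := fin6_twice i
  rw [e] at h
  exact h.symm

theorem phi_surj (x : Fin 6 → F) : ∃ v, v < 4096 ∧ phi ω b v = x := by
  have hx : x ∈ Submodule.span F (Set.range b) :=
    span_six (linearIndependent_basis hF hω hb) ▸ Submodule.mem_top
  obtain ⟨c, rfl⟩ := (Submodule.mem_span_range_iff_exists_fun F).1 hx
  choose a ha hac using fun i => iota_surj hF hω (c i)
  obtain ⟨v, ev⟩ : ∃ v, v = a 0 + 4 * a 1 + 16 * a 2 + 64 * a 3 + 256 * a 4 + 1024 * a 5 :=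
    ⟨_, rfl⟩
  have h0 := ha 0; have h1 := ha 1; have h2 := ha 2; have h3 := ha 3; have h4 := ha 4; have h5 := ha 5
  have hd : ∀ i : Fin 6, dig v i = a i := by
    intro i
    rw [dig_eq, ev]
    fin_cases i <;> simp only [Fin.reduceFinMk] <;> norm_num <;> omega
  exact ⟨v, by omega, Finset.sum_congr rfl fun i _ => by rw [hd, hac]⟩

theorem phi_ne_zero {v : Nat} (hv : v < 4096) (h : v ≠ 0) : phi ω b v ≠ 0 := by
  intro e
  have hz : ∀ i : Fin 6, dig v i = 0 := fun i => iota_eq_zero hF hω (dig_lt _ _) <| by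
    have := hh_basis hF hω hb (fun i => iota ω (dig v i)) (i + 3)
    rw [show (∑ j : Fin 6, iota ω (dig v j) • b j) = 0 from e, hh_zero_left hF] at this
    have e' : i + 3 + 3 = i := fin6_twice i
    rw [e'] at this
    exact this.symm
  have h0 := hz 0; have h1 := hz 1; have h2 := hz 2; have h3 := hz 3; have h4 := hz 4; have h5 := hz 5
  rw [dig_eq] at h0 h1 h2 h3 h4 h5
  norm_num at h0 h1 h2 h3 h4 h5
  omega

end CfsgLib.InvChar.Fi22Inv
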