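import Cfsg.Agent.Lib.InvChar.Fi22Inv.Rigid
import Cfsg.Agent.Lib.Trans3.Fi.U6Count

/-!
Coordinates from a hexad and three further members: the closed set is the list of 126 points.
-/

set_option autoImplicit false
set_option linter.unusedSectionVars false
set_option maxRecDepth 100000

namespace CfsgLib.InvChar.Fi22Inv

open CfsgLib.Trans3 CfsgLib.Trans3.Fi CfsgLib.InvChar.Fi22Inv.Data

/-- The data from which the 126 are recovered. -/
structure HexData {Y : Type*} [Group Y] (D S : Set Y) (h : Fin 6 → Y) (y₁ y₂ y₃ : Y) : Prop where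
  sub : S ⊆ D
  closed : ∀ p ∈ S, ∀ x ∈ S, p * x * p ∈ S
  mem : ∀ i, h i ∈ S
  inj : Function.Injective h
  comm : ∀ i j, Commute (h i) (h j)
  prod : (List.ofFn h).prod = 1
  bound : ∀ x ∈ S, (∀ i, Commute x (h i)) → ∃ i, x = h i
  mem₁ : y₁ ∈ S
  y₁a : Commute y₁ (h 0)
  y₁b : Commute y₁ (h 1)
  y₁c : ¬ Commute y₁ (h 2)
  mem₂ : y₂ ∈ S
  y₂a : Commute y₂ (h 0)
  y₂b : ¬ Commute y₂ (h 1)
  y₂c : Commute y₂ (h 2)
  mem₃ : y₃ ∈ S
  y₃a : ¬ Commute y₃ (h 0)
  y₃c : Commute y₃ (h 2)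

section

variable {F : Type*} [Field F] [Fintype F] (hF : Fintype.card F = 2 ^ 2) {ω : F}
  (hω : ω + ω ^ 2 = 1)
variable {Y : Type*} [Group Y] {D : Set Y} (f : ↥(Cfsg.SU 6 F 2) →* Y)
  (hf : Function.Surjective f) (hk : f.ker = Subgroup.center ↥(Cfsg.SU 6 F 2))
  (hD : Cfsg.IsThreeTranspositionGroup D)

/-- A plane vector from a code. -/
def pvec (ω : F) (e : Fin 3 → Fin 6 → F) (v : Nat) : Fin 6 → F :=
  ∑ i : Fin 3, iota ω (dig v i.1) • e i

include hF hω in
theorem pvec_scal {c : Nat} (hc : c < 4) (e : Fin 3 → Fin 6 → F) (v : Nat) :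
    pvec ω e (scal c v) = iota ω c • pvec ω e v := by
  simp only [pvec, Finset.smul_sum, smul_smul]
  refine Finset.sum_congr rfl fun i _ => ?_
  rw [dig_scal c v (by omega), iota_mul hF hω hc (dig_lt _ _)]

include hF hω hf hk hD in
/-- The representative of a member of the plane. -/
theorem exists_rep {e : Fin 3 → Fin 6 → F} {v : Fin 6 → F} (hv : v ≠ 0) (hvv : hh v v = 0)
    (hspan : v ∈ Submodule.span F (Set.range e)) :
    ∃ r ∈ plane, pvec ω e r ≠ 0 ∧ hh (pvec ω e r) (pvec ω e r) = 0 ∧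
      pt hF f (pvec ω e r) = pt hF f v := by
  obtain ⟨c, rfl⟩ := (Submodule.mem_span_range_iff_exists_fun F).1 hspan
  choose a ha hac using fun i => iota_surj hF hω (c i)
  obtain ⟨u, eu⟩ : ∃ u, u = a 0 + 4 * a 1 + 16 * a 2 := ⟨_, rfl⟩
  have h0 := ha 0; have h1 := ha 1; have h2 := ha 2
  have hd : ∀ i : Fin 3, dig u i.1 = a i := by
    intro i
    rw [dig_eq, eu]
    fin_cases i <;> simp only [Fin.reduceFinMk] <;> norm_num <;> omega
  have hu : pvec ω e u = ∑ i, c i • e i :=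
    Finset.sum_congr rfl fun i _ => by rw [hd, hac]
  rw [← hu] at hv hvv ⊢
  have hall := plane_all
  simp only [List.all_eq_true, List.mem_range, Bool.or_eq_true, beq_iff_eq, List.any_eq_true] at hall
  obtain ⟨r, hr, hpq⟩ := (hall u (by omega)).resolve_left fun e' => hv (by
    subst e'
    simp [pvec, dig, iota])
  refine ⟨r, hr, ?_⟩
  have key : ∀ c, c < 4 → c ≠ 0 → scal c u = r → pvec ω e r ≠ 0 ∧
      hh (pvec ω e r) (pvec ω e r) = 0 ∧ pt hF f (pvec ω e r) = pt hF f (pvec ω e u) := by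
    intro c hc hc0 ec
    have hne : iota ω c ≠ 0 := fun e' => hc0 (iota_eq_zero hF hω hc e')
    rw [← ec, pvec_scal hF hω hc]
    exact ⟨smul_ne_zero hne hv, by rw [hh_smul_left hF, hh_smul_right hF, hvv, mul_zero, mul_zero],
      pt_smul hF f hvv hne⟩
  simp only [peq, Bool.or_eq_true, beq_iff_eq] at hpq
  rcases hpq with (rfl | h) | h
  · exact ⟨hv, hvv, rfl⟩
  · exact key 2 (by norm_num) (by norm_num) h
  · exact key 3 (by norm_num) (by norm_num) h

variable {S : Set Y} {h : Fin 6 → Y}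

include hF hω hf hk hD in
/-- Six commuting points with product one in the coordinates of three of them. -/
theorem hex_rel {e x : Fin 3 → Fin 6 → F} (hx : ∀ i j, hh (x j) (e i) = if i = j then 1 else 0)
    (he : ∀ i j, hh (e i) (e j) = 0) (he0 : ∀ i, e i ≠ 0)
    (hinj : Function.Injective h) (hprod : (List.ofFn h).prod = 1)
    (e0 : h 0 = pt hF f (e 0)) (e1 : h 1 = pt hF f (e 1)) (e2 : h 2 = pt hF f (e 2))
    {a b c : Nat} (ha : a ∈ plane) (hb : b ∈ plane) (hc : c ∈ plane)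
    (e3 : h 3 = pt hF f (pvec ω e a)) (e4 : h 4 = pt hF f (pvec ω e b))
    (e5 : h 5 = pt hF f (pvec ω e c)) :
    dig a 0 ≠ 0 ∧ dig a 1 ≠ 0 ∧ dig a 2 ≠ 0 ∧
      (a = 21 → (peq b 57 = true ∧ peq c 45 = true) ∨ (peq b 45 = true ∧ peq c 57 = true)) := by
  have hl : ∀ v, ∀ i j : Fin 3, hh (pvec ω e v) (e i) = 0 ∧ hh (e j) (pvec ω e v) = 0 := by
    intro v i j
    simp only [pvec, Fin.sum_univ_three, hh_add_left hF, hh_add_right hF, hh_smul_left hF,
      hh_smul_right hF, he, mul_zero, add_zero, and_self]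
  obtain ⟨V, eV⟩ : ∃ V : List (Fin 6 → F),
      V = [e 0, e 1, e 2, pvec ω e a, pvec ω e b, pvec ω e c] := ⟨_, rfl⟩
  have horth : ∀ p ∈ V, ∀ r ∈ V, hh p r = 0 := by
    have hp : ∀ v w, hh (pvec ω e v) (pvec ω e w) = 0 := by
      intro v w
      have hw := fun i => (hl v i i).1
      show hh (pvec ω e v) (∑ i : Fin 3, iota ω (dig w i.1) • e i) = 0
      simp only [Fin.sum_univ_three, hh_add_right hF, hh_smul_right hF, hw, mul_zero, add_zero]
    intro p hp' r hr'
    have code : ∀ p ∈ V, ∃ v, p = pvec ω e v := by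
      intro p hp'
      simp only [eV, List.mem_cons, List.not_mem_nil, or_false] at hp'
      rcases hp' with rfl | rfl | rfl | rfl | rfl | rfl
      · exact ⟨1, by simp [pvec, Fin.sum_univ_three, dig, iota]⟩
      · exact ⟨4, by simp [pvec, Fin.sum_univ_three, dig, iota]⟩
      · exact ⟨16, by simp [pvec, Fin.sum_univ_three, dig, iota]⟩
      all_goals exact ⟨_, rfl⟩
    obtain ⟨v, rfl⟩ := code p hp'
    obtain ⟨w, rfl⟩ := code r hr'
    exact hp v w
  have hrel := rel_sum hF f hk (l := V) (fun p hp => horth p hp p hp) horth (by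
    rw [eV, ← hprod]
    simp [List.ofFn_succ, e0, e1, e2, e3, e4, e5])
  -- coefficients
  have hco : ∀ v i, hh (pvec ω e v) (x i) = iota ω (dig v i.1) ∧
      hh (x i) (pvec ω e v) = iota ω (dig v i.1) ^ 2 := by
    intro v i
    have h' : ∀ p q, hh (e p) (x q) = if p = q then 1 else 0 := fun p q => by
      rw [← hh_conj hF (x q) (e p), hx]; split_ifs <;> simp
    fin_cases i <;>
      simp [pvec, Fin.sum_univ_three, hh_add_left hF, hh_add_right hF, hh_smul_left hF,
        hh_smul_right hF, h', hx]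
  have hex : hexRel a b c = true := by
    simp only [hexRel, List.all_eq_true, List.mem_range, beq_iff_eq]
    intro i hi j hj
    have hlt : ∀ {p q : Nat}, p < 4 → q < 4 → p ^^^ q < 4 := fun hp hq =>
      Nat.xor_lt_two_pow (n := 2) hp hq
    have hdel : (if i == j then 1 else 0 : Nat) < 4 := by split_ifs <;> norm_num
    refine iota_eq_zero hF hω (hlt (hlt (hlt hdel mul4_lt) mul4_lt) mul4_lt) ?_
    have h1 := congrArg (fun z => hh z (x ⟨i, hi⟩)) (hrel (x ⟨j, hj⟩))
    have h' : ∀ p q, hh (e p) (x q) = if p = q then 1 else 0 := fun p q => by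
      rw [← hh_conj hF (x q) (e p), hx]; split_ifs <;> simp
    simp only [eV, List.map_cons, List.map_nil, List.sum_cons, List.sum_nil, hh_add_left hF,
      hh_smul_left hF, hh_zero_left hF, hx, h', (hco _ _).1, (hco _ _).2] at h1
    rw [sqSum, iota_xor hF hω (hlt (hlt hdel mul4_lt) mul4_lt) mul4_lt,
      iota_xor hF hω (hlt hdel mul4_lt) mul4_lt, iota_xor hF hω hdel mul4_lt,
      iota_mul hF hω (dig_lt _ _) conj4_lt, iota_mul hF hω (dig_lt _ _) conj4_lt,
      iota_mul hF hω (dig_lt _ _) conj4_lt, ← iota_conj hF hω (dig_lt _ _),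
      ← iota_conj hF hω (dig_lt _ _), ← iota_conj hF hω (dig_lt _ _)]
    have hij : iota ω (if i == j then 1 else 0) =
        (if (0 : Fin 3) = ⟨j, hj⟩ then 1 else 0) * (if (0 : Fin 3) = ⟨i, hi⟩ then 1 else 0) +
        ((if (1 : Fin 3) = ⟨j, hj⟩ then 1 else 0) * (if (1 : Fin 3) = ⟨i, hi⟩ then 1 else 0) +
        (if (2 : Fin 3) = ⟨j, hj⟩ then 1 else 0) * (if (2 : Fin 3) = ⟨i, hi⟩ then (1 : F) else 0)) := by
      interval_cases i <;> interval_cases j <;> simp [iota, Fin.ext_iff]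
    rw [hij]
    linear_combination h1
  have hpv : pvec ω e 1 = e 0 ∧ pvec ω e 4 = e 1 ∧ pvec ω e 16 = e 2 := by
    refine ⟨?_, ?_, ?_⟩ <;> simp [pvec, Fin.sum_univ_three, dig, iota]
  have hne : ∀ {p q : Nat} {i j : Fin 6}, h i = pt hF f (pvec ω e p) →
      h j = pt hF f (pvec ω e q) → i ≠ j → p ≠ q := fun ei ej hij e' =>
    hij (hinj (by rw [ei, ej, e']))
  have hz : ∀ {p : Nat} {i : Fin 6}, h i = pt hF f (pvec ω e p) → i ≠ 0 → i ≠ 1 → i ≠ 2 →
      [1, 4, 16].contains p = false := by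
    intro p i ei h0 h1' h2
    simp only [List.contains_eq_mem, List.mem_cons, List.not_mem_nil, or_false,
      decide_eq_false_iff_not]
    rintro (rfl | rfl | rfl)
    · exact h0 (hinj (by rw [ei, e0, hpv.1]))
    · exact h1' (hinj (by rw [ei, e1, hpv.2.1]))
    · exact h2 (hinj (by rw [ei, e2, hpv.2.2]))
  have hchk := hex_check
  simp only [List.all_eq_true, Bool.or_eq_true, Bool.and_eq_true, beq_iff_eq, bne_iff_ne,
    Bool.not_eq_true'] at hchk
  have h3 := hz e3 (by decide) (by decide) (by decide)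
  have h4 := hz e4 (by decide) (by decide) (by decide)
  have h5 := hz e5 (by decide) (by decide) (by decide)
  have n34 := hne e3 e4 (by decide)
  have n35 := hne e3 e5 (by decide)
  have n45 := hne e4 e5 (by decide)
  have := hchk a ha b hb c hc
  simp only [hex, h3, h4, h5, n34, n35, n45, Bool.true_eq_false, Bool.false_eq_true, false_or,
    or_false] at this
  exact ⟨this.1.1.1, this.1.1.2, this.1.2, fun ha' => this.2.resolve_left fun hn => hn ha'⟩

include hF hω hf hk hD in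
/-- The coordinates. -/
theorem exists_coords {y₁ y₂ y₃ : Y} (H : HexData D S h y₁ y₂ y₃) :
    ∃ s : Fin 126 → Y, Function.Injective s ∧ Set.range s = S ∧
      (∀ g k k' : Fin 126, g.1 < 9 → k'.1 = (perms.getD g.1 []).getD k.1 0 →
        s g * s k * s g = s k') ∧
      ∀ t < 117, ∀ k a c : Fin 126, k.1 = 9 + t → a.1 = (steps.getD t (0, 0)).1 →
        c.1 = (steps.getD t (0, 0)).2 → s k = s a * s c * s a := by
  classical
  choose v v0 vv hv using fun i => exists_pt hF f hf hk hD (H.sub (H.mem i))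
  have vperp : ∀ i j, hh (v i) (v j) = 0 := fun i j =>
    (pt_commute hF f hk (v0 i) (v0 j) (vv i) (vv j)).1 (hv i ▸ hv j ▸ H.comm i j)
  obtain ⟨q₁, q₁0, q₁₁, rfl⟩ := exists_pt hF f hf hk hD (H.sub H.mem₁)
  obtain ⟨q₂, q₂0, q₂₂, rfl⟩ := exists_pt hF f hf hk hD (H.sub H.mem₂)
  have c₁ : ∀ i, Commute (pt hF f q₁) (h i) ↔ hh q₁ (v i) = 0 := fun i => by
    rw [hv i]; exact pt_commute hF f hk q₁0 (v0 i) q₁₁ (vv i)
  have c₂ : ∀ i, Commute (pt hF f q₂) (h i) ↔ hh q₂ (v i) = 0 := fun i => by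
    rw [hv i]; exact pt_commute hF f hk q₂0 (v0 i) q₂₂ (vv i)
  have a1 := (c₁ 0).1 H.y₁a
  have b1 := (c₁ 1).1 H.y₁b
  have k1 : hh q₁ (v 2) ≠ 0 := fun e => H.y₁c ((c₁ 2).2 e)
  have a2 := (c₂ 0).1 H.y₂a
  have b2 : hh q₂ (v 1) ≠ 0 := fun e => H.y₂b ((c₂ 1).2 e)
  have k2 := (c₂ 2).1 H.y₂c
  obtain ⟨x0, -, hx00⟩ := exists_hh hF (S := ⊥) (r := v 0) (by simpa using v0 0)
  have hli : LinearIndependent F ![v 0, v 1, v 2] := by
    refine Fintype.linearIndependent_iff.2 fun g hg => ?_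
    have hg' : g 0 • v 0 + g 1 • v 1 + g 2 • v 2 = 0 := by
      rw [← hg, Fin.sum_univ_three]; rfl
    have e1 := congrArg (fun z => hh z q₁) hg'
    have e2 := congrArg (fun z => hh z q₂) hg'
    simp only [hh_add_left hF, hh_smul_left hF, hh_zero_left hF, hh_symm_zero hF a1,
      hh_symm_zero hF b1, hh_symm_zero hF a2, hh_symm_zero hF k2, mul_zero, zero_add, add_zero,
      mul_eq_zero] at e1 e2
    have g2 : g 2 = 0 := e1.resolve_right fun e => k1 (hh_symm_zero hF e)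
    have g1 : g 1 = 0 := e2.resolve_right fun e => b2 (hh_symm_zero hF e)
    rw [g1, g2, zero_smul, zero_smul, add_zero, add_zero, smul_eq_zero] at hg'
    have g0 := hg'.resolve_right (v0 0)
    intro i; fin_cases i <;> assumption
  -- every member of the hexad lies in the plane
  have hspan : ∀ k, v k ∈ Submodule.span F (Set.range ![v 0, v 1, v 2]) := by
    intro k
    obtain ⟨T, eT⟩ : ∃ T, T = Submodule.span F (Set.range ![v 0, v 1, v 2] ∪ {v k}) := ⟨_, rfl⟩
    have hgen : ∀ p ∈ Set.range ![v 0, v 1, v 2] ∪ {v k}, ∃ i, p = v i := by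
      rintro p (⟨i, rfl⟩ | rfl)
      · fin_cases i
        exacts [⟨0, rfl⟩, ⟨1, rfl⟩, ⟨2, rfl⟩]
      · exact ⟨k, rfl⟩
    have hiso : ∀ p ∈ T, ∀ r ∈ T, hh p r = 0 := by
      rw [eT]
      intro p hp
      induction hp using Submodule.span_induction with
      | mem u hu =>
        intro r hr
        induction hr using Submodule.span_induction with
        | mem w hw =>
          obtain ⟨i, rfl⟩ := hgen u hu
          obtain ⟨j, rfl⟩ := hgen w hw
          exact vperp i j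
        | zero => exact hh_zero_right hF u
        | add w w' _ _ e e' => rw [hh_add_right hF, e, e', add_zero]
        | smul c w _ e => rw [hh_smul_right hF, e, mul_zero]
      | zero => intro r _; exact hh_zero_left hF r
      | add u u' _ _ e e' => intro r hr; rw [hh_add_left hF, e r hr, e' r hr, add_zero]
      | smul c u _ e => intro r hr; rw [hh_smul_left hF, e r hr, mul_zero]
    have h3 := span_isotropic_le hF hiso
    have hle : Submodule.span F (Set.range ![v 0, v 1, v 2]) ≤ T :=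
      eT ▸ Submodule.span_mono Set.subset_union_left
    have heq := Submodule.eq_of_le_of_finrank_le hle (by
      rw [finrank_span_eq_card hli, Fintype.card_fin]; exact h3)
    rw [heq, eT]
    exact Submodule.subset_span (Or.inr rfl)
  obtain ⟨x, hx⟩ : ∃ x : Fin 3 → Fin 6 → F,
      ∀ i j, hh (x j) (![v 0, v 1, v 2] i) = if i = j then 1 else 0 := by
    have : ∀ j, ∃ z, ∀ i, hh z (![v 0, v 1, v 2] i) = if i = j then 1 else 0 := by
      intro j
      obtain ⟨z, hz, hz'⟩ := exists_hh hF (hli.notMem_span_image (s := {i | i ≠ j}) (x := j) (by simp))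
      refine ⟨z, fun i => ?_⟩
      split_ifs with hij
      · rw [hij]; exact hz'
      · exact hz _ (Submodule.subset_span ⟨i, hij, rfl⟩)
    choose z hz using this
    exact ⟨z, fun i j => hz j i⟩
  obtain ⟨r3, hr3, -, -, p3⟩ := exists_rep hF hω f hf hk hD (v0 3) (vv 3) (hspan 3)
  obtain ⟨r4, hr4, -, -, p4⟩ := exists_rep hF hω f hf hk hD (v0 4) (vv 4) (hspan 4)
  obtain ⟨r5, hr5, -, -, p5⟩ := exists_rep hF hω f hf hk hD (v0 5) (vv 5) (hspan 5)
  obtain ⟨d0, d1, d2, -⟩ := hex_rel hF hω f hf hk hD hx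
    (fun i j => by fin_cases i <;> fin_cases j <;> simp [vperp])
    (fun i => by fin_cases i <;> simp [v0]) H.inj H.prod (hv 0) (hv 1) (hv 2) hr3 hr4 hr5
    ((hv 3).trans p3.symm) ((hv 4).trans p4.symm) ((hv 5).trans p5.symm)
  -- rescale
  have dne : ∀ i : Fin 3, iota ω (dig r3 i.1) ≠ 0 := fun i e => by
    have := iota_eq_zero hF hω (dig_lt _ _) e
    fin_cases i
    exacts [d0 this, d1 this, d2 this]
  obtain ⟨e, ee⟩ : ∃ e : Fin 3 → Fin 6 → F,
      e = fun i => iota ω (dig r3 i.1) • ![v 0, v 1, v 2] i := ⟨_, rfl⟩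
  have he : ∀ i j, hh (e i) (e j) = 0 := fun i j => by
    fin_cases i <;> fin_cases j <;> simp [ee, hh_smul_left hF, hh_smul_right hF, vperp]
  have he0 : ∀ i, e i ≠ 0 := fun i => by
    rw [ee]
    refine smul_ne_zero (dne i) ?_
    fin_cases i <;> simp [v0]
  have ept : pt hF f (e 0) = h 0 ∧ pt hF f (e 1) = h 1 ∧ pt hF f (e 2) = h 2 := by
    rw [hv 0, hv 1, hv 2, ee]
    exact ⟨pt_smul hF f (vv 0) (dne 0), pt_smul hF f (vv 1) (dne 1), pt_smul hF f (vv 2) (dne 2)⟩
  obtain ⟨x', hx'⟩ : ∃ x' : Fin 3 → Fin 6 → F, ∀ i j, hh (x' j) (e i) = if i = j then 1 else 0 := by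
    refine ⟨fun j => iota ω (dig r3 j.1) • x j, fun i j => ?_⟩
    rw [ee]
    simp only [hh_smul_left hF, hh_smul_right hF, hx]
    by_cases hij : i = j
    · subst hij
      simp only [if_true]
      linear_combination cube_one hF (dne i)
    · simp only [if_neg hij, mul_zero]
  have espan : ∀ k, v k ∈ Submodule.span F (Set.range e) := by
    intro k
    refine Submodule.span_le.2 ?_ (hspan k)
    rintro _ ⟨i, rfl⟩
    have : ![v 0, v 1, v 2] i = (iota ω (dig r3 i.1))⁻¹ • e i := by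
      rw [ee, smul_smul, inv_mul_cancel₀ (dne i), one_smul]
    rw [this]
    exact Submodule.smul_mem _ _ (Submodule.subset_span ⟨i, rfl⟩)
  have p3' : pt hF f (pvec ω e 21) = h 3 := by
    rw [hv 3, ← p3, pvec, pvec, ee]
    congr 1
    simp [Fin.sum_univ_three, dig, iota]
  obtain ⟨s4, hs4, -, -, p4'⟩ := exists_rep hF hω f hf hk hD (v0 4) (vv 4) (espan 4)
  obtain ⟨s5, hs5, -, -, p5'⟩ := exists_rep hF hω f hf hk hD (v0 5) (vv 5) (espan 5)
  obtain ⟨-, -, -, hhex⟩ := hex_rel hF hω f hf hk hD hx' he he0 H.inj H.prod ept.1.symm ept.2.1.symm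
    ept.2.2.symm (a := 21) (by decide) hs4 hs5 p3'.symm ((hv 4).trans p4'.symm)
    ((hv 5).trans p5'.symm)
  have hperm := hhex rfl
  have peqP : ∀ {u w : Nat}, hh (pvec ω e u) (pvec ω e u) = 0 → peq u w = true →
      pt hF f (pvec ω e w) = pt hF f (pvec ω e u) := by
    intro u w huu hq
    simp only [peq, Bool.or_eq_true, beq_iff_eq] at hq
    rcases hq with (rfl | rfl) | rfl
    · rfl
    all_goals
      rw [pvec_scal hF hω (by norm_num)]
      exact pt_smul hF f huu fun e' => absurd (iota_eq_zero hF hω (by norm_num) e') (by norm_num)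
  have pp : ∀ u, hh (pvec ω e u) (pvec ω e u) = 0 := fun u => by
    simp only [pvec, Fin.sum_univ_three, hh_add_left hF, hh_add_right hF, hh_smul_left hF,
      hh_smul_right hF, he, mul_zero, add_zero]
  -- the scaled dual vectors
  have k1' : hh q₁ (e 2) ≠ 0 := by
    rw [ee]; simp only [hh_smul_right hF]; exact mul_ne_zero (pow_ne_zero _ (dne 2)) k1
  have b2' : hh q₂ (e 1) ≠ 0 := by
    rw [ee]; simp only [hh_smul_right hF]; exact mul_ne_zero (pow_ne_zero _ (dne 1)) b2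
  obtain ⟨u₁, eu₁⟩ : ∃ u₁, u₁ = (hh q₁ (e 2))⁻¹ • q₁ := ⟨_, rfl⟩
  obtain ⟨u₂, eu₂⟩ : ∃ u₂, u₂ = (hh q₂ (e 1))⁻¹ • q₂ := ⟨_, rfl⟩
  have g1 : hh u₁ (e 0) = 0 ∧ hh u₁ (e 1) = 0 ∧ hh u₁ (e 2) = 1 ∧ hh u₁ u₁ = 0 := by
    refine ⟨?_, ?_, ?_, ?_⟩ <;> rw [eu₁]
    · rw [ee]; simp [hh_smul_left hF, hh_smul_right hF, a1]
    · rw [ee]; simp [hh_smul_left hF, hh_smul_right hF, b1]
    · rw [hh_smul_left hF, inv_mul_cancel₀ k1']
    · rw [hh_smul_left hF, hh_smul_right hF, q₁₁, mul_zero, mul_zero]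
  have g2 : hh u₂ (e 0) = 0 ∧ hh u₂ (e 1) = 1 ∧ hh u₂ (e 2) = 0 ∧ hh u₂ u₂ = 0 := by
    refine ⟨?_, ?_, ?_, ?_⟩ <;> rw [eu₂]
    · rw [ee]; simp [hh_smul_left hF, hh_smul_right hF, a2]
    · rw [hh_smul_left hF, inv_mul_cancel₀ b2']
    · rw [ee]; simp [hh_smul_left hF, hh_smul_right hF, k2]
    · rw [hh_smul_left hF, hh_smul_right hF, q₂₂, mul_zero, mul_zero]
  have u1S : pt hF f u₁ ∈ S := by rw [eu₁, pt_smul hF f q₁₁ (inv_ne_zero k1')]; exact H.mem₁
  have u2S : pt hF f u₂ ∈ S := by rw [eu₂, pt_smul hF f q₂₂ (inv_ne_zero b2')]; exact H.mem₂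
  have hS6 : ∀ u ∈ hexad, pt hF f (pvec ω e u) ∈ S := by
    intro u hu
    simp only [hexad, List.mem_cons, List.not_mem_nil, or_false] at hu
    have h45 : pt hF f (pvec ω e 57) ∈ S ∧ pt hF f (pvec ω e 45) ∈ S := by
      rcases hperm with ⟨h1, h2⟩ | ⟨h1, h2⟩ <;>
        rw [peqP (pp _) h1, peqP (pp _) h2, p4', p5', ← hv 4, ← hv 5] <;>
        exact ⟨H.mem _, H.mem _⟩
    have h1 : pvec ω e 1 = e 0 := by simp [pvec, Fin.sum_univ_three, dig, iota]
    have h4 : pvec ω e 4 = e 1 := by simp [pvec, Fin.sum_univ_three, dig, iota]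
    have h16 : pvec ω e 16 = e 2 := by simp [pvec, Fin.sum_univ_three, dig, iota]
    rcases hu with rfl | rfl | rfl | rfl | rfl | rfl
    · rw [h1, ept.1]; exact H.mem 0
    · rw [h4, ept.2.1]; exact H.mem 1
    · rw [h16, ept.2.2]; exact H.mem 2
    · rw [p3']; exact H.mem 3
    · exact h45.1
    · exact h45.2
  -- make the two duals orthogonal
  obtain ⟨w₂, w2a, w2b, w2c, w2w, w21, w2S, w20⟩ : ∃ w₂, hh w₂ (e 0) = 0 ∧ hh w₂ (e 1) = 1 ∧
      hh w₂ (e 2) = 0 ∧ hh w₂ w₂ = 0 ∧ hh w₂ u₁ = 0 ∧ pt hF f w₂ ∈ S ∧ w₂ ≠ 0 := by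
    have ne0 : ∀ {w}, hh w (e 1) = 1 → w ≠ 0 := fun hw e' => by
      rw [e', hh_zero_left hF] at hw; exact zero_ne_one hw
    obtain ⟨μ, hμ, eμ⟩ := iota_surj hF hω (hh u₂ u₁)
    interval_cases μ
    · exact ⟨u₂, g2.1, g2.2.1, g2.2.2.1, g2.2.2.2, eμ.symm, u2S, ne0 g2.2.1⟩
    all_goals
      have es : ∀ (c : Nat), c ∈ hexad → ∀ (α β : Nat), α = dig c 1 → β = dig c 2 →
          hh u₂ u₁ + iota ω α ^ 2 * iota ω β = 0 →
          ∃ w₂, hh w₂ (e 0) = 0 ∧ hh w₂ (e 1) = 1 ∧ hh w₂ (e 2) = 0 ∧ hh w₂ w₂ = 0 ∧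
            hh w₂ u₁ = 0 ∧ pt hF f w₂ ∈ S ∧ w₂ ≠ 0 := by
        intro c hc α β ea eb hzero
        have hpe : ∀ i, hh (pvec ω e c) (e i) = 0 := fun i => by
          simp only [pvec, Fin.sum_univ_three, hh_add_left hF, hh_smul_left hF, he, mul_zero,
            add_zero]
        have s1 : hh (pvec ω e c) u₁ = iota ω β := by
          simp [pvec, Fin.sum_univ_three, hh_add_left hF, hh_smul_left hF, hh_symm_zero hF g1.1,
            hh_symm_zero hF g1.2.1, hh_symm_one hF g1.2.2.1, eb]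
        have s2 : hh u₂ (pvec ω e c) = iota ω α ^ 2 := by
          simp [pvec, Fin.sum_univ_three, hh_add_right hF, hh_smul_right hF, g2.1, g2.2.1, g2.2.2.1,
            ea]
        have hc0 : pvec ω e c ≠ 0 := by
          intro e'
          rw [e', hh_zero_left hF] at s1
          rw [← s1, mul_zero, add_zero, ← eμ] at hzero
          exact absurd (iota_eq_zero hF hω (by norm_num) hzero) (by norm_num)
        refine ⟨u₂ + hh u₂ (pvec ω e c) • pvec ω e c, ?_, ?_, ?_, ?_, ?_, ?_, ?_⟩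
        · rw [hh_add_left hF, hh_smul_left hF, g2.1, hpe, mul_zero, add_zero]
        · rw [hh_add_left hF, hh_smul_left hF, g2.2.1, hpe, mul_zero, add_zero]
        · rw [hh_add_left hF, hh_smul_left hF, g2.2.2.1, hpe, mul_zero, add_zero]
        · rw [← tv_act hF (pp c), hh_act]; exact g2.2.2.2
        · rw [hh_add_left hF, hh_smul_left hF, s2, s1]; exact hzero
        · rw [← third hF f hf hD hc0 (pp c) g2.2.2.2]
          exact H.closed _ (hS6 c hc) _ u2S
        · exact ne0 (by rw [hh_add_left hF, hh_smul_left hF, g2.2.1, hpe, mul_zero, add_zero])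
    · exact es 21 (by decide) 1 1 (by decide +kernel) (by decide +kernel) (by
        rw [← eμ]; simp only [iota]; linear_combination add_self hF (1 : F))
    · exact es 57 (by decide) 2 3 (by decide +kernel) (by decide +kernel) (by
        rw [← eμ]; simp only [iota]
        linear_combination ω * hω + add_self hF (ω : F))
    · exact es 45 (by decide) 3 2 (by decide +kernel) (by decide +kernel) (by
        rw [← eμ]; simp only [iota]
        linear_combination (ω + 1) * hω + add_self hF (ω : F) + add_self hF (1 : F))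
  -- the last dual
  obtain ⟨w₀, w0a, w0b, w0c, w0w, w01, w02⟩ : ∃ w₀, hh w₀ (e 0) = 1 ∧ hh w₀ (e 1) = 0 ∧
      hh w₀ (e 2) = 0 ∧ hh w₀ w₀ = 0 ∧ hh w₀ u₁ = 0 ∧ hh w₀ w₂ = 0 := by
    obtain ⟨z, ez⟩ : ∃ z, z = x' 0 + hh (x' 0) w₂ • e 1 + hh (x' 0) u₁ • e 2 := ⟨_, rfl⟩
    have za : hh z (e 0) = 1 := by simp [ez, hh_add_left hF, hh_smul_left hF, hx', he]
    obtain ⟨l, hl1, -⟩ := exists_pair hF (he 0 0) (hh_symm_one hF za)
    refine ⟨z + l • e 0, ?_, ?_, ?_, hl1, ?_, ?_⟩
    · rw [hh_add_left hF, hh_smul_left hF, za, he, mul_zero, add_zero]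
    · simp [ez, hh_add_left hF, hh_smul_left hF, hx', he]
    · simp [ez, hh_add_left hF, hh_smul_left hF, hx', he]
    · simp [ez, hh_add_left hF, hh_smul_left hF, hh_symm_zero hF g1.1, hh_symm_zero hF g1.2.1,
        hh_symm_one hF g1.2.2.1, add_self hF]
    · simp [ez, hh_add_left hF, hh_smul_left hF, hh_symm_zero hF w2a, hh_symm_one hF w2b,
        hh_symm_zero hF w2c, add_self hF]
  obtain ⟨b, eb⟩ : ∃ b : Fin 6 → Fin 6 → F, b = ![e 0, e 1, e 2, w₀, w₂, u₁] := ⟨_, rfl⟩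
  have hb : ∀ i j : Fin 6, hh (b i) (b j) = if j = i + 3 then 1 else 0 := by
    intro i j
    rw [eb]
    fin_cases i <;> fin_cases j <;>
      simp [he, g1.1, g1.2.1, g1.2.2.1, g1.2.2.2, w2a, w2b, w2c, w2w, w21, w0a, w0b, w0c, w0w, w01,
        w02, hh_symm_zero hF g1.1, hh_symm_zero hF g1.2.1, hh_symm_one hF g1.2.2.1,
        hh_symm_zero hF w2a, hh_symm_one hF w2b, hh_symm_zero hF w2c, hh_symm_zero hF w21,
        hh_symm_one hF w0a, hh_symm_zero hF w0b, hh_symm_zero hF w0c, hh_symm_zero hF w01,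
        hh_symm_zero hF w02]
  have hplane : ∀ u, u < 64 → phi ω b u = pvec ω e u := by
    intro u hu
    have z : ∀ i, 3 ≤ i → dig u i = 0 := fun i hi => by
      rw [dig_eq, Nat.div_eq_of_lt (lt_of_lt_of_le hu (by
        calc (64 : ℕ) = 4 ^ 3 := by norm_num
          _ ≤ 4 ^ i := Nat.pow_le_pow_right (by norm_num) hi)), Nat.zero_mod]
    simp [phi, pvec, eb, Fin.sum_univ_six, Fin.sum_univ_three, z 3 le_rfl, z 4 (by norm_num),
      z 5 (by norm_num), iota]
  have hbase : ∀ u ∈ Data.base, InS hF f ω b S u := by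
    intro u hu
    rcases List.mem_append.1 hu with hu | hu
    · have hu' : u < 64 ∧ u ≠ 0 := by
        simp only [hexad, List.mem_cons, List.not_mem_nil, or_false] at hu
        omega
      refine ⟨phi_ne_zero hF hω hb (by omega) hu'.2, ?_, ?_⟩
      · rw [hplane u hu'.1]; exact pp u
      · rw [cpt, hplane u hu'.1]; exact hS6 u hu
    · simp only [List.mem_cons, List.not_mem_nil, or_false] at hu
      have t1 : phi ω b 1024 = u₁ := by simp [phi, eb, Fin.sum_univ_six, dig, iota]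
      have t2 : phi ω b 256 = w₂ := by simp [phi, eb, Fin.sum_univ_six, dig, iota]
      rcases hu with rfl | rfl
      · exact ⟨phi_ne_zero hF hω hb (by norm_num) (by norm_num), by rw [t1]; exact g1.2.2.2,
          by rw [cpt, t1]; exact u1S⟩
      · exact ⟨phi_ne_zero hF hω hb (by norm_num) (by norm_num), by rw [t2]; exact w2w,
          by rw [cpt, t2]; exact w2S⟩
  have hbad : ∀ u < 64, badP u = true → ¬ InS hF f ω b S u := by
    intro u hu hbu hin
    have hherm := plane_herm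
    simp only [List.all_eq_true, List.mem_range, beq_iff_eq] at hherm
    have hcom : ∀ w ∈ hexad, Commute (cpt hF f ω b u) (cpt hF f ω b w) := by
      intro w hw
      have hw' := hbase w (List.mem_append_left _ hw)
      refine (pt_commute hF f hk hin.1 hw'.1 hin.2.1 hw'.2.1).2 ?_
      rw [hh_phi hF hω hb, hherm u hu w hw]
      rfl
    -- every member of the hexad is coded
    have hcode : ∀ i, ∃ w ∈ hexad, h i = cpt hF f ω b w := by
      have hp : ∀ w ∈ hexad, cpt hF f ω b w = pt hF f (pvec ω e w) := fun w hw => by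
        have : w < 64 := by
          simp only [hexad, List.mem_cons, List.not_mem_nil, or_false] at hw; omega
        rw [cpt, hplane w this]
      intro i
      fin_cases i
      · exact ⟨1, by decide, by rw [hp 1 (by decide)]; simp [pvec, Fin.sum_univ_three, dig, iota, ept.1]⟩
      · exact ⟨4, by decide, by rw [hp 4 (by decide)]; simp [pvec, Fin.sum_univ_three, dig, iota, ept.2.1]⟩
      · exact ⟨16, by decide, by rw [hp 16 (by decide)]; simp [pvec, Fin.sum_univ_three, dig, iota, ept.2.2]⟩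
      · exact ⟨21, by decide, by rw [hp 21 (by decide), p3']; rfl⟩
      · rcases hperm with ⟨h1, -⟩ | ⟨h1, -⟩
        · exact ⟨57, by decide, by rw [hp 57 (by decide), peqP (pp _) h1, p4', ← hv 4]; rfl⟩
        · exact ⟨45, by decide, by rw [hp 45 (by decide), peqP (pp _) h1, p4', ← hv 4]; rfl⟩
      · rcases hperm with ⟨-, h1⟩ | ⟨-, h1⟩
        · exact ⟨45, by decide, by rw [hp 45 (by decide), peqP (pp _) h1, p5', ← hv 5]; rfl⟩
        · exact ⟨57, by decide, by rw [hp 57 (by decide), peqP (pp _) h1, p5', ← hv 5]; rfl⟩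
    obtain ⟨i, hi⟩ := H.bound _ hin.2.2 fun i => by
      obtain ⟨w, hw, e'⟩ := hcode i
      exact e' ▸ hcom w hw
    obtain ⟨w, hw, e'⟩ := hcode i
    have hw' := hbase w (List.mem_append_left _ hw)
    obtain ⟨a, ha0, ha⟩ := pt_eq hF f hk hin.1 hin.2.1 hw'.2.1 (hi.trans e')
    obtain ⟨c, hc4, rfl⟩ := iota_surj hF hω a
    rw [← phi_scal hF hω hc4] at ha
    have h0 : phi ω b (u ^^^ scal c w) = 0 := by rw [phi_xor hF hω, ← ha, vec_add_self hF]
    have hxor : u = scal c w := by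
      rw [← Nat.xor_eq_zero_iff]
      by_contra hn
      exact phi_ne_zero hF hω hb (Nat.xor_lt_two_pow (n := 12) (by omega) (scal_lt _ _)) hn h0
    have hc0 : c ≠ 0 := fun e'' => ha0 (by rw [e'']; rfl)
    have hfin : ((List.range 4).all fun c => hexad.all fun w =>
        c == 0 || !(badP (scal c w))) = true := by decide +kernel
    simp only [List.all_eq_true, List.mem_range, Bool.or_eq_true, beq_iff_eq,
      Bool.not_eq_true'] at hfin
    rw [hxor, (hfin c hc4 w hw).resolve_left hc0] at hbu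
    exact Bool.false_ne_true hbu
  obtain ⟨q₃, q₃0, q₃₃, e₃⟩ := exists_pt hF f hf hk hD (H.sub H.mem₃)
  obtain ⟨u, hu, eu⟩ := phi_surj hF hω hb q₃
  have hlin : hh q₃ (e 0) ≠ 0 ∧ hh q₃ (e 2) = 0 := by
    have t0 := pt_commute hF f hk q₃0 (he0 0) q₃₃ (he 0 0)
    have t2 := pt_commute hF f hk q₃0 (he0 2) q₃₃ (he 2 2)
    rw [ept.1, ← e₃] at t0
    rw [ept.2.2, ← e₃] at t2
    exact ⟨fun e' => H.y₃a (t0.2 e'), t2.1 H.y₃c⟩
  have hd3 : dig u 3 ≠ 0 ∧ dig u 5 = 0 := by
    have t0 := hh_basis hF hω hb (fun i => iota ω (dig u i.1)) 0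
    have t2 := hh_basis hF hω hb (fun i => iota ω (dig u i.1)) 2
    rw [show (∑ i : Fin 6, iota ω (dig u i.1) • b i) = q₃ from eu] at t0 t2
    rw [show b 0 = e 0 by rw [eb]; rfl] at t0
    rw [show b 2 = e 2 by rw [eb]; rfl] at t2
    refine ⟨fun e' => hlin.1 ?_, iota_eq_zero hF hω (dig_lt _ _) ?_⟩
    · rw [t0, show (((0 : Fin 6) + 3 : Fin 6) : Nat) = 3 from rfl, e']; rfl
    · exact t2.symm.trans hlin.2
  have hu0 : InS hF f ω b S u := by
    refine ⟨eu ▸ q₃0, eu ▸ q₃₃, ?_⟩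
    rw [cpt, eu, ← e₃]; exact H.mem₃
  obtain ⟨c, hc, hc0, hc1⟩ : ∃ c < 4, c ≠ 0 ∧ mul4 c (dig u 3) = 1 := by
    have := dig_lt u 3
    interval_cases hd : dig u 3
    · exact absurd rfl hd3.1
    · exact ⟨1, by norm_num, by norm_num, by decide +kernel⟩
    · exact ⟨3, by norm_num, by norm_num, by decide +kernel⟩
    · exact ⟨2, by norm_num, by norm_num, by decide +kernel⟩
  have hfinal := (inS_scal hF hω f hc hc0).2 hu0
  obtain ⟨r, p, hr, hp, ev⟩ : ∃ r p, r < 4 ∧ p < 64 ∧ scal c u = p + 64 + 256 * r := by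
    have h3 := dig_scal c u (show 3 < 6 by norm_num)
    have h5 := dig_scal c u (show 5 < 6 by norm_num)
    rw [hc1] at h3
    rw [hd3.2] at h5
    have h50 : mul4 c 0 = 0 := by interval_cases c <;> decide +kernel
    rw [h50] at h5
    rw [dig_eq] at h3 h5
    have := scal_lt c u
    norm_num at h3 h5
    exact ⟨scal c u / 256 % 4, scal c u % 64, by omega, by omega, by omega⟩
  exact rigid hF hω f hf hk hD hb H.closed hbase hbad H.sub hr hp (ev ▸ hfinal)

end

/-- The 126. -/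
theorem exists_coords_u6 {Y : Type*} [Group Y] {D S : Set Y} {h : Fin 6 → Y} {y₁ y₂ y₃ : Y}
    (hU : IsU6 Y) (hD : Cfsg.IsThreeTranspositionGroup D) (H : HexData D S h y₁ y₂ y₃) :
    ∃ s : Fin 126 → Y, Function.Injective s ∧ Set.range s = S ∧
      (∀ g k k' : Fin 126, g.1 < 9 → k'.1 = (perms.getD g.1 []).getD k.1 0 →
        s g * s k * s g = s k') ∧
      ∀ t < 117, ∀ k a c : Fin 126, k.1 = 9 + t → a.1 = (steps.getD t (0, 0)).1 →
        c.1 = (steps.getD t (0, 0)).2 → s k = s a * s c * s a := by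
  obtain ⟨F, _, _, f, hF, hf, hk⟩ := exists_model hU hD
  obtain ⟨ω, hω⟩ := exists_omega hF
  exact exists_coords hF hω f hf hk hD H

end CfsgLib.InvChar.Fi22Inv
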