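import Cfsg.Agent.Lib.PLocal.U6JCount

/-!
An involution `d` whose centraliser is the double cover of `PSU₆(2)`: the conjugates of `d` in the
centraliser are `d` and one lift of each transvection.
-/

set_option autoImplicit false
set_option linter.unusedSectionVars false

namespace CfsgLib.InvChar.Fi22Inv

open CfsgLib.Trans3 CfsgLib.Trans3.Fi CfsgLib.PLocal.U6J

section

variable {G : Type*} [Group G] [Finite G] {d : G} {X : Type*} [Group X] [Finite X]
variable {π : ↥(Subgroup.centralizer ({d} : Set G)) →* X}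
variable {z : ↥(Subgroup.centralizer ({d} : Set G))} {D : Set X}
variable (hzd : (z : G) = d) (hd : orderOf d = 2) (hC : DCov π z) (hU : IsU6 X)
  (hD : Cfsg.IsThreeTranspositionGroup D)
  (hperf : _root_.commutator ↥(Subgroup.centralizer ({d} : Set G)) = ⊤)
  (hnwc : ∃ g : G, g * d * g⁻¹ ∈ Subgroup.centralizer ({d} : Set G) ∧ g * d * g⁻¹ ≠ d)
include hzd hd hC hU hD hperf hnwc

/-- In the preimage of a clique span: exactly one lift over each member, none elsewhere. -/
theorem span_lifts {E : Set X} (hE : Clique D E) :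
    (∀ u : ↥(Subgroup.centralizer ({d} : Set G)), π u ∈ Subgroup.closure E → IsConj d (u : G) →
      u = z ∨ π u ∈ E) ∧
    ∀ t ∈ E, ∃! u : ↥(Subgroup.centralizer ({d} : Set G)), π u = t ∧ IsConj d (u : G) := by
  classical
  obtain ⟨T, eT⟩ : ∃ T : Set ↥(Subgroup.centralizer ({d} : Set G)),
      T = {u | π u ∈ Subgroup.closure E ∧ IsConj d (u : G)} := ⟨_, rfl⟩
  have hT : T.ncard = 22 := by
    rw [← span_count hzd hd hC hU hD hperf hnwc hE,
      ← Set.ncard_image_of_injective T (Subgroup.subtype_injective _)]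
    congr 1
    ext x
    simp only [eT, Set.mem_image, Set.mem_setOf_eq, Subgroup.mem_map, Subgroup.mem_comap]
    exact ⟨fun ⟨u, ⟨h1, h2⟩, e⟩ => ⟨⟨u, h1, e⟩, e ▸ h2⟩,
      fun ⟨⟨u, h1, e⟩, h2⟩ => ⟨u, ⟨h1, by rw [show (u : G) = x from e]; exact h2⟩, e⟩⟩
  -- lifts travel along the stabiliser of the clique
  have move : ∀ {a b : X}, (∃ k ∈ setFix E, k * a * k⁻¹ = b) →
      ∀ u : ↥(Subgroup.centralizer ({d} : Set G)), π u = a → IsConj d (u : G) →
      ∃ c : ↥(Subgroup.centralizer ({d} : Set G)),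
        π (c * u * c⁻¹) = b ∧ IsConj d ((c * u * c⁻¹ : ↥(Subgroup.centralizer ({d} : Set G))) : G) := by
    rintro a b ⟨k, -, rfl⟩ u rfl hu
    obtain ⟨c, rfl⟩ := hC.surj k
    exact ⟨c, by rw [map_mul, map_mul, map_inv], hu.trans (isConj_iff.2 ⟨(c : G), rfl⟩)⟩
  obtain ⟨tr1, tr2, tr3⟩ := u6j_trans hU hD hE
  obtain ⟨hPc, hPp⟩ := u6j_pairs hU hD hE
  -- a kind with more than 22 elements carries no lift
  have small : ∀ S : Set X, 22 < S.ncard → S ⊆ Subgroup.closure E →
      (∀ a ∈ S, ∀ b ∈ S, ∃ k ∈ setFix E, k * a * k⁻¹ = b) →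
      ∀ u, π u ∈ S → IsConj d ((u : ↥(Subgroup.centralizer ({d} : Set G))) : G) → False := by
    intro S hS hSW htr u hu hc
    choose f hf using fun b : S => move (htr _ hu b.1 b.2) u rfl hc
    have h1 : S.ncard ≤ T.ncard := by
      refine Set.ncard_le_ncard_of_injOn (fun b => if h : b ∈ S then f ⟨b, h⟩ * u * (f ⟨b, h⟩)⁻¹ else 1)
        (fun b hb => ?_) (fun b hb b' hb' e => ?_) (Set.toFinite _)
      · simp only [dif_pos hb, eT]
        exact ⟨(hf ⟨b, hb⟩).1.symm ▸ hSW hb, (hf ⟨b, hb⟩).2⟩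
      · simp only [dif_pos hb, dif_pos hb'] at e
        exact (hf ⟨b, hb⟩).1.symm.trans ((congrArg π e).trans (hf ⟨b', hb'⟩).1)
    omega
  obtain ⟨R, eR⟩ : ∃ R : Set X,
      R = {w | w ∈ Subgroup.closure E ∧ (w ≠ 1 ∧ w ∉ E ∧ w ∉ pairSet E)} := ⟨_, rfl⟩
  have hR : 22 < R.ncard := by
    have hsub : (Subgroup.closure E : Set X) ⊆ insert 1 (E ∪ pairSet E) ∪ R := fun w hw => by
      by_cases h : w = 1 ∨ w ∈ E ∨ w ∈ pairSet E
      · exact Or.inl h
      · simp only [not_or] at h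
        exact Or.inr (eR ▸ ⟨hw, h⟩)
    have h1 := Set.ncard_le_ncard hsub (Set.toFinite _)
    have h2 := Set.ncard_union_le (insert 1 (E ∪ pairSet E)) R
    have h3 := Set.ncard_insert_le 1 (E ∪ pairSet E)
    have h4 := Set.ncard_union_le E (pairSet E)
    have h5 : ((Subgroup.closure E : Subgroup X) : Set X).ncard = 512 := by
      rw [← Nat.card_coe_set_eq]
      exact u6j_span_card hU hD hE
    rw [hE.card, hPc] at h4
    omega
  have kinds : ∀ u : ↥(Subgroup.centralizer ({d} : Set G)), π u ∈ Subgroup.closure E →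
      IsConj d (u : G) → u = z ∨ π u ∈ E := by
    intro u hu hc
    by_cases h1 : π u = 1
    · refine Or.inl (((hC.ker u).1 h1).resolve_left fun e => invol_ne_one hd ?_)
      rw [e] at hc
      exact isConj_one_left.1 (show IsConj d 1 from hc)
    by_cases h2 : π u ∈ E
    · exact Or.inr h2
    exfalso
    by_cases h3 : π u ∈ pairSet E
    · exact small _ (by rw [hPc]; norm_num) (fun w hw => (hPp w hw).2.2) tr2 u h3 hc
    · exact small R hR (fun w hw => (eR ▸ hw).1) (fun a ha b hb => by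
        rw [eR] at ha hb; exact tr3 a ha.1 b hb.1 ha.2 hb.2) u (eR ▸ ⟨hu, h1, h2, h3⟩) hc
  refine ⟨kinds, fun t ht => ?_⟩
  have hex : ∃ u, π u = t ∧ IsConj d ((u : ↥(Subgroup.centralizer ({d} : Set G))) : G) := by
    by_contra hno
    have hsub : T ⊆ {z} := by
      intro u hu
      rw [eT] at hu
      refine (kinds u hu.1 hu.2).resolve_right fun h => hno ?_
      obtain ⟨c, hc⟩ := move (tr1 _ h t ht) u rfl hu.2
      exact ⟨_, hc⟩
    have := Set.ncard_le_ncard hsub (Set.toFinite _)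
    rw [hT, Set.ncard_singleton] at this
    omega
  obtain ⟨u, hu, hc⟩ := hex
  refine ⟨u, ⟨hu, hc⟩, fun v ⟨hv, hvc⟩ => ?_⟩
  rcases dcov_eq hC (hv.trans hu.symm) with e | e
  · exact e
  exfalso
  -- two lifts over one member: two over every member
  have hsub : π ⁻¹' E ⊆ T := by
    intro x hx
    rw [eT]
    refine ⟨Subgroup.subset_closure hx, ?_⟩
    obtain ⟨k, -, hk⟩ := tr1 t ht _ hx
    obtain ⟨c, rfl⟩ := hC.surj k
    have hcx : π (c * u * c⁻¹) = π x := by rw [map_mul, map_mul, map_inv, hu, hk]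
    rcases dcov_eq hC hcx.symm with e' | e'
    · exact e' ▸ hc.trans (isConj_iff.2 ⟨(c : G), rfl⟩)
    · rw [show c * u * c⁻¹ * z = c * v * c⁻¹ by
        rw [e]; simp [mul_assoc, (hC.central c⁻¹).eq]] at e'
      exact e' ▸ hvc.trans (isConj_iff.2 ⟨(c : G), rfl⟩)
  choose s hs using hC.surj
  have h42 : 42 ≤ (π ⁻¹' E).ncard := by
    have hne : ∀ a b : X, s a ≠ s b * z := fun a b h => by
      have h1 := congrArg π h
      rw [map_mul, hs, hs, dcov_map_z hC, mul_one] at h1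
      subst h1
      exact hC.ne (mul_eq_left.1 h.symm)
    have hsinj : Function.Injective s := Function.LeftInverse.injective hs
    have h2 : (s '' E ∪ (fun a => s a * z) '' E).ncard = 42 := by
      have hdis : Disjoint (s '' E) ((fun a => s a * z) '' E) :=
        Set.disjoint_left.2 fun x ⟨a, _, ha⟩ ⟨b, _, hb⟩ => hne a b (ha.trans hb.symm)
      rw [Set.ncard_union_eq hdis (Set.toFinite _) (Set.toFinite _), Set.ncard_image_of_injective E hsinj,
        Set.ncard_image_of_injective E fun a b h => hsinj (mul_right_cancel h), hE.card]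
    rw [← h2]
    refine Set.ncard_le_ncard ?_ (Set.toFinite _)
    rintro x (⟨a, ha, rfl⟩ | ⟨a, ha, rfl⟩) <;> simp [hs, dcov_map_z hC, ha]
  have := Set.ncard_le_ncard hsub (Set.toFinite _)
  omega

/-- The conjugates of `d` in its centraliser. -/
theorem fusion : (∀ u : ↥(Subgroup.centralizer ({d} : Set G)), IsConj d (u : G) → u ≠ z → π u ∈ D) ∧
    ∀ t ∈ D, ∃! u : ↥(Subgroup.centralizer ({d} : Set G)), π u = t ∧ IsConj d (u : G) := by
  obtain ⟨E, hE⟩ := u6j_clique_exists hU hD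
  obtain ⟨kinds, lifts⟩ := span_lifts hzd hd hC hU hD hperf hnwc hE
  refine ⟨fun u hu hne => ?_, fun t ht => ?_⟩
  · have hsq : π u * π u = 1 := by
      have hu2 : (u : G) * u = 1 := invol_mul_self (by
        obtain ⟨g, hg⟩ := isConj_iff.1 hu
        rw [← hg, orderOf_conj, hd])
      rw [← map_mul, show u * u = 1 from Subtype.ext hu2, map_one]
    obtain ⟨k, hk⟩ := u6j_invol_mem hU hD hE hsq
    obtain ⟨c, rfl⟩ := hC.surj k
    rw [← map_inv, ← map_mul, ← map_mul] at hk
    rcases kinds _ hk (hu.trans (isConj_iff.2 ⟨(c : G), rfl⟩)) with e | e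
    · exfalso
      refine hne ?_
      rw [mul_inv_eq_iff_eq_mul, ← (hC.central c).eq] at e
      exact mul_left_cancel e
    · have := hD.2.1 (π c)⁻¹ _ (hE.sub e)
      simpa [mul_assoc] using this
  · obtain ⟨k, hk⟩ := u6j_invol_mem hU hD hE (Trans3.sq_one hD.1 ht)
    have hkE : k * t * k⁻¹ ∈ E := u6j_mem hU hD hE (hD.2.1 k t ht) fun a ha =>
      (u6j_span_comm hU hD hE (Subgroup.subset_closure ha)).2 _ hk
    obtain ⟨c, rfl⟩ := hC.surj k
    obtain ⟨u, ⟨h1, h2⟩, huniq⟩ := lifts _ hkE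
    refine ⟨c⁻¹ * u * c, ⟨by simp [map_mul, map_inv, h1, mul_assoc], h2.trans (isConj_iff.2
      ⟨(c : G)⁻¹, by simp⟩)⟩, fun v ⟨hv, hv'⟩ => ?_⟩
    have := huniq (c * v * c⁻¹)
      ⟨by simp [map_mul, map_inv, hv], hv'.trans (isConj_iff.2 ⟨(c : G), rfl⟩)⟩
    rw [← this]
    group

end

end CfsgLib.InvChar.Fi22Inv
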