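import Cfsg.Agent.Lib.InvChar.Fi22Inv.RigidCheck

/-!
Six points of a plane over the field with four elements with vanishing sum of squares form a
hyperoval.
-/

set_option autoImplicit false
set_option maxRecDepth 1000000

namespace CfsgLib.InvChar.Fi22Inv.Data

/-- representatives of the points of the plane -/
def plane : List Nat :=
  (List.range 64).filter fun v => v != 0 && decide (v ≤ scal 2 v) && decide (v ≤ scal 3 v)

/-- one entry of the sum of the six squares -/
def sqSum (a b c i j : Nat) : Nat :=
  (if i == j then 1 else 0) ^^^ mul4 (dig a i) (conj4 (dig a j)) ^^^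
    mul4 (dig b i) (conj4 (dig b j)) ^^^ mul4 (dig c i) (conj4 (dig c j))

/-- the sum of the six squares vanishes -/
def hexRel (a b c : Nat) : Bool :=
  (List.range 3).all fun i => (List.range 3).all fun j => sqSum a b c i j == 0

theorem plane_all : ((List.range 64).all fun v => v == 0 || plane.any fun r => peq v r) = true := by
  decide +kernel

theorem hex_check : (plane.all fun a => plane.all fun b => plane.all fun c => !(hexRel a b c) ||
    a == b || a == c || b == c || [1, 4, 16].contains a || [1, 4, 16].contains b ||
    [1, 4, 16].contains c ||
    (dig a 0 != 0 && dig a 1 != 0 && dig a 2 != 0 &&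
      (a != 21 || ((peq b 57 && peq c 45) || (peq b 45 && peq c 57))))) = true := by
  decide +kernel

theorem field_ok : ((List.range 4).all fun a => (List.range 4).all fun b =>
    mul4 a b == [0,0,0,0, 0,1,2,3, 0,2,3,1, 0,3,1,2].getD (4 * a + b) 0 &&
      decide (a ^^^ b < 4) && decide (mul4 a b < 4)) = true := by decide +kernel

end CfsgLib.InvChar.Fi22Inv.Data
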