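import Cfsg.Agent.Lib.InvChar.Fi22Inv.Fusion
import Cfsg.Agent.Lib.Trans3.Fi.Nice

/-!
An involution with centraliser `2.PSU₆(2)`, commuting with another conjugate: the neighbourhood of
each conjugate in the commuting graph of the class is the transvection class of `PSU₆(2)`.
-/

set_option autoImplicit false
set_option linter.unusedSectionVars false

namespace CfsgLib.InvChar.Fi22Inv

open CfsgLib.Trans3 CfsgLib.Trans3.Fi
open scoped commutatorElement

theorem map_center_equiv {A B : Type*} [Group A] [Group B] (e : A ≃* B) :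
    (Subgroup.center A).map e.toMonoidHom = Subgroup.center B := by
  ext b
  rw [Subgroup.mem_map_equiv, Subgroup.mem_center_iff, Subgroup.mem_center_iff]
  refine ⟨fun h g => ?_, fun h g => ?_⟩
  · apply e.symm.injective
    rw [map_mul, map_mul]
    exact h _
  · apply e.injective
    rw [map_mul, map_mul, e.apply_symm_apply]
    exact h _

variable {G : Type*} [Group G] [Finite G]

/-- The hypotheses on the involution. -/
structure Cen (x : G) : Prop where
  ord : orderOf x = 2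
  perf : _root_.commutator ↥(Subgroup.centralizer ({x} : Set G)) = ⊤
  u6 : IsU6 (↥(Subgroup.centralizer ({x} : Set G)) ⧸
    Subgroup.center ↥(Subgroup.centralizer ({x} : Set G)))
  cen : ∀ u ∈ Subgroup.center ↥(Subgroup.centralizer ({x} : Set G)), (u : G) = 1 ∨ (u : G) = x
  nwc : ∃ g : G, g * x * g⁻¹ ∈ Subgroup.centralizer ({x} : Set G) ∧ g * x * g⁻¹ ≠ x

theorem Cen.conj {x : G} (h : Cen x) (g : G) : Cen (g * x * g⁻¹) := by
  have hmap : (Subgroup.centralizer ({x} : Set G)).map (MulAut.conj g).toMonoidHom =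
      Subgroup.centralizer ({g * x * g⁻¹} : Set G) := by
    ext y
    rw [Subgroup.mem_map_equiv, Subgroup.mem_centralizer_singleton_iff,
      Subgroup.mem_centralizer_singleton_iff, MulAut.conj_symm_apply]
    constructor <;> intro e
    · calc y * (g * x * g⁻¹) = g * (g⁻¹ * y * g * x) * g⁻¹ := by group
        _ = g * (x * (g⁻¹ * y * g)) * g⁻¹ := by rw [e]
        _ = g * x * g⁻¹ * y := by group
    · calc g⁻¹ * y * g * x = g⁻¹ * (y * (g * x * g⁻¹)) * g := by group
        _ = g⁻¹ * (g * x * g⁻¹ * y) * g := by rw [e]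
        _ = x * (g⁻¹ * y * g) := by group
  let E : ↥(Subgroup.centralizer ({x} : Set G)) ≃* ↥(Subgroup.centralizer ({g * x * g⁻¹} : Set G)) :=
    ((MulAut.conj g).subgroupMap _).trans (MulEquiv.subgroupCongr hmap)
  have hE : ∀ u, ((E u : ↥(Subgroup.centralizer ({g * x * g⁻¹} : Set G))) : G) = g * (u : G) * g⁻¹ :=
    fun _ => rfl
  have hcen : (Subgroup.center ↥(Subgroup.centralizer ({x} : Set G))).map E.toMonoidHom =
      Subgroup.center ↥(Subgroup.centralizer ({g * x * g⁻¹} : Set G)) :=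
    map_center_equiv E
  refine ⟨by rw [orderOf_conj, h.ord], ?_, ?_, fun u hu => ?_, ?_⟩
  · rw [eq_top_iff, ← Subgroup.map_top_of_surjective E.toMonoidHom E.surjective, ← h.perf,
      _root_.commutator_def, _root_.commutator_def, Subgroup.map_commutator,
      Subgroup.map_top_of_surjective E.toMonoidHom E.surjective]
  · obtain ⟨F, i₁, i₂, hF, ⟨e⟩⟩ := h.u6
    exact ⟨F, i₁, i₂, hF, ⟨(QuotientGroup.congr _ _ E hcen).symm.trans e⟩⟩
  · rw [← hcen] at hu
    obtain ⟨v, hv, rfl⟩ := hu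
    show ((E v : ↥(Subgroup.centralizer ({g * x * g⁻¹} : Set G))) : G) = 1 ∨
      ((E v : ↥(Subgroup.centralizer ({g * x * g⁻¹} : Set G))) : G) = g * x * g⁻¹
    rw [hE]
    rcases h.cen v hv with e | e <;> rw [e]
    exacts [Or.inl (by group), Or.inr rfl]
  · obtain ⟨k, hk, hne⟩ := h.nwc
    have hk' := hmap ▸ Subgroup.mem_map_of_mem (MulAut.conj g).toMonoidHom hk
    refine ⟨g * k * g⁻¹, ?_, fun e => hne ?_⟩
    · have : g * k * g⁻¹ * (g * x * g⁻¹) * (g * k * g⁻¹)⁻¹ = g * (k * x * k⁻¹) * g⁻¹ := by group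
      rw [this]; simpa using hk'
    · have : g * (k * x * k⁻¹) * g⁻¹ = g * x * g⁻¹ := by rw [← e]; group
      exact mul_left_cancel (mul_right_cancel this)

variable {d : G}

theorem cen_of_mem (h : Cen d) {a : G} (ha : a ∈ conjugatesOf d) : Cen a := by
  obtain ⟨g, rfl⟩ := isConj_iff.1 (show IsConj d a from ha)
  exact h.conj g

theorem conjugates_eq {a : G} (ha : a ∈ conjugatesOf d) : conjugatesOf d = conjugatesOf a :=
  Set.ext fun _ => ⟨fun h => (show IsConj d a from ha).symm.trans h, fun h => (show IsConj d a from ha).trans h⟩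

theorem conj_mem (g : G) {y : G} (hy : y ∈ conjugatesOf d) : g * y * g⁻¹ ∈ conjugatesOf d :=
  (show IsConj d y from hy).trans (isConj_iff.2 ⟨g, rfl⟩)

/-- The neighbourhood of `d` as a set of transvections. -/
theorem local_raw (h : Cen d) : ∃ (D : Set (↥(Subgroup.centralizer ({d} : Set G)) ⧸
      Subgroup.center ↥(Subgroup.centralizer ({d} : Set G)))), Cfsg.IsThreeTranspositionGroup D ∧
    (∀ u : ↥(Subgroup.centralizer ({d} : Set G)), (u : G) ∈ nbrs (conjugatesOf d) d →
      (QuotientGroup.mk u : _ ⧸ Subgroup.center ↥(Subgroup.centralizer ({d} : Set G))) ∈ D) ∧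
    ∀ t ∈ D, ∃! u : ↥(Subgroup.centralizer ({d} : Set G)),
      QuotientGroup.mk u = t ∧ (u : G) ∈ nbrs (conjugatesOf d) d := by
  have hd := h.ord
  let z : ↥(Subgroup.centralizer ({d} : Set G)) :=
    ⟨d, Subgroup.mem_centralizer_singleton_iff.2 rfl⟩
  have hz : z ∈ Subgroup.center ↥(Subgroup.centralizer ({d} : Set G)) :=
    Subgroup.mem_center_iff.2 fun u => Subtype.ext (Subgroup.mem_centralizer_singleton_iff.1 u.2)
  have hC : DCov (QuotientGroup.mk' (Subgroup.center ↥(Subgroup.centralizer ({d} : Set G)))) z :=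
    { surj := QuotientGroup.mk'_surjective _
      ne := fun e => invol_ne_one hd (congrArg Subtype.val e)
      central := fun u => Subgroup.mem_center_iff.1 hz u
      ker := fun u => by
        rw [QuotientGroup.mk'_apply, QuotientGroup.eq_one_iff]
        refine ⟨fun hu => (h.cen u hu).imp Subtype.ext Subtype.ext, ?_⟩
        rintro (rfl | rfl)
        exacts [one_mem _, hz] }
  obtain ⟨D, hD⟩ := u6_exists_group h.u6
  obtain ⟨hin, hlift⟩ := fusion rfl hd hC h.u6 hD h.perf h.nwc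
  refine ⟨D, hD, fun u hu => hin u hu.1 fun e => hu.2.1 (congrArg Subtype.val e), fun t ht => ?_⟩
  obtain ⟨u, ⟨hu, hc⟩, huniq⟩ := hlift t ht
  refine ⟨u, ⟨hu, hc, fun e => ?_, (Subgroup.mem_centralizer_singleton_iff.1 u.2).symm⟩,
    fun v hv => huniq v ⟨hv.1, hv.2.1⟩⟩
  refine invol_ne_one (hD.1.1 t ht) (hu.symm.trans ?_)
  exact (hC.ker u).2 (Or.inr (Subtype.ext e))

theorem nbrs_centralizer {D : Set G} {a y : G} (hy : y ∈ nbrs D a) :
    y ∈ Subgroup.centralizer ({a} : Set G) :=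
  Subgroup.mem_centralizer_singleton_iff.2 hy.2.2.eq.symm

theorem nbrs_conj' {a g y : G} (hg : g ∈ Subgroup.centralizer ({a} : Set G))
    (hy : y ∈ nbrs (conjugatesOf d) a) : g * y * g⁻¹ ∈ nbrs (conjugatesOf d) a := by
  have hga : g * a * g⁻¹ = a := by
    rw [mul_inv_eq_iff_eq_mul]; exact Subgroup.mem_centralizer_singleton_iff.1 hg
  refine ⟨conj_mem g hy.1, fun e => hy.2.1 ?_, ?_⟩
  · exact mul_left_cancel (mul_right_cancel (e.trans hga.symm))
  · have := hy.2.2.map (MulAut.conj g).toMonoidHom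
    simpa [hga] using this

/-- The neighbours of a member generate its centraliser. -/
theorem loc_Hd (h : Cen d) {a : G} (ha : a ∈ conjugatesOf d) :
    Hd (conjugatesOf d) a = Subgroup.centralizer ({a} : Set G) := by
  have hle : Hd (conjugatesOf d) a ≤ Subgroup.centralizer ({a} : Set G) :=
    (Subgroup.closure_le _).2 fun y hy => nbrs_centralizer hy
  refine le_antisymm hle ?_
  obtain ⟨D, hD, hin, hlift⟩ := local_raw (cen_of_mem h ha)
  rw [conjugates_eq ha] at hle ⊢
  obtain ⟨K, eK⟩ : ∃ K, K = (Hd (conjugatesOf a) a).subgroupOf (Subgroup.centralizer ({a} : Set G)) :=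
    ⟨_, rfl⟩
  have hgen : ∀ t, t ∈ K.map (QuotientGroup.mk' (Subgroup.center _)) := by
    intro t
    have : t ∈ Subgroup.closure D := hD.2.2 ▸ Subgroup.mem_top t
    refine (Subgroup.closure_le _).2 (fun s hs => ?_) this
    obtain ⟨u, ⟨hu, hu'⟩, -⟩ := hlift s hs
    exact ⟨u, eK ▸ Subgroup.mem_subgroupOf.2 (Subgroup.subset_closure hu'), hu⟩
  have hdec : ∀ v, ∃ k ∈ K, ∃ c ∈ Subgroup.center ↥(Subgroup.centralizer ({a} : Set G)), v = k * c := by
    intro v
    obtain ⟨k, hk, hkv⟩ := hgen (QuotientGroup.mk v)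
    exact ⟨k, hk, k⁻¹ * v, QuotientGroup.eq.1 hkv, (mul_inv_cancel_left k v).symm⟩
  have hcomm : _root_.commutator ↥(Subgroup.centralizer ({a} : Set G)) ≤ K := by
    rw [_root_.commutator_def, Subgroup.commutator_le]
    intro v _ w _
    obtain ⟨k, hk, c, hc, rfl⟩ := hdec v
    obtain ⟨l, hl, e, he, rfl⟩ := hdec w
    have hc' := Subgroup.mem_center_iff.1 hc
    have he' := Subgroup.mem_center_iff.1 he
    have : ⁅k * c, l * e⁆ = ⁅k, l⁆ := by
      simp only [commutatorElement_def, mul_inv_rev]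
      calc k * c * (l * e) * (c⁻¹ * k⁻¹) * (e⁻¹ * l⁻¹)
          = k * (c * (l * e) * c⁻¹) * k⁻¹ * (e⁻¹ * l⁻¹) := by group
        _ = k * (l * e) * k⁻¹ * (e⁻¹ * l⁻¹) := by rw [← hc' (l * e), mul_inv_cancel_right]
        _ = k * l * (e * (k⁻¹ * e⁻¹)) * l⁻¹ := by group
        _ = k * l * k⁻¹ * l⁻¹ := by
          rw [show e * (k⁻¹ * e⁻¹) = k⁻¹ by rw [← mul_assoc, ← he' k⁻¹, mul_inv_cancel_right]]
    rw [this]
    exact mul_mem (mul_mem (mul_mem hk hl) (inv_mem hk)) (inv_mem hl)
  rw [(cen_of_mem h ha).perf, top_le_iff] at hcomm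
  intro y hy
  have h1 : (⟨y, hy⟩ : ↥(Subgroup.centralizer ({a} : Set G))) ∈ K := hcomm ▸ Subgroup.mem_top _
  exact Subgroup.mem_subgroupOf.1 (eK ▸ h1)

/-- The quotient of the neighbourhood group with the neighbours is `PSU₆(2)` with a class of
transvections. -/
theorem loc_iso (h : Cen d) {a : G} (ha : a ∈ conjugatesOf d) :
    IsU6 (Qd (conjugatesOf d) a) ∧ Cfsg.IsThreeTranspositionGroup (Db (conjugatesOf d) a) ∧
    (∀ x ∈ Subgroup.center ↥(Hd (conjugatesOf d) a), (x : G) = 1 ∨ (x : G) = a) ∧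
    (∀ {u v : G} (hu : u ∈ nbrs (conjugatesOf d) a) (hv : v ∈ nbrs (conjugatesOf d) a),
      bar hu = bar hv → u = v) := by
  have hH := loc_Hd h ha
  have hc := cen_of_mem h ha
  obtain ⟨D, hD, hin, hlift⟩ := local_raw hc
  rw [← conjugates_eq ha] at hin hlift
  let E : ↥(Hd (conjugatesOf d) a) ≃* ↥(Subgroup.centralizer ({a} : Set G)) :=
    MulEquiv.subgroupCongr hH
  have hE : ∀ u, ((E u : ↥(Subgroup.centralizer ({a} : Set G))) : G) = (u : G) := fun _ => rfl
  have hcen : (Subgroup.center ↥(Hd (conjugatesOf d) a)).map E.toMonoidHom =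
      Subgroup.center ↥(Subgroup.centralizer ({a} : Set G)) := map_center_equiv E
  let e := QuotientGroup.congr _ _ E hcen
  have hbar : ∀ (u : ↥(Hd (conjugatesOf d) a)), e (QuotientGroup.mk u) = QuotientGroup.mk (E u) :=
    fun _ => rfl
  have himg : e '' Db (conjugatesOf d) a = D := by
    ext t
    constructor
    · rintro ⟨_, ⟨u, hu, rfl⟩, rfl⟩
      rw [hbar]
      exact hin _ (show (u : G) ∈ _ from hu)
    · intro ht
      obtain ⟨u, ⟨hu, hu'⟩, -⟩ := hlift t ht
      refine ⟨_, bar_mem hu', ?_⟩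
      rw [← hu, hbar]
      rfl
  refine ⟨?_, ?_, fun x hx => ?_, fun {u v} hu hv hb => ?_⟩
  · obtain ⟨F, i₁, i₂, hF, ⟨f⟩⟩ := hc.u6
    exact ⟨F, i₁, i₂, hF, ⟨e.trans f⟩⟩
  · have hmem : ∀ q, q ∈ Db (conjugatesOf d) a ↔ e q ∈ D := fun q => by
      rw [← himg, e.injective.mem_set_image]
    refine ⟨⟨fun q hq => ?_, fun q hq r hr => ?_⟩, fun g q hq => ?_, ?_⟩
    · rw [← MulEquiv.orderOf_eq e]; exact hD.1.1 _ ((hmem q).1 hq)
    · rcases hD.1.2 _ ((hmem q).1 hq) _ ((hmem r).1 hr) with h' | h' <;>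
        rw [← map_mul, ← map_pow, e.map_eq_one_iff] at h'
      exacts [Or.inl h', Or.inr h']
    · rw [hmem, map_mul, map_mul, map_inv]
      exact hD.2.1 _ _ ((hmem q).1 hq)
    · refine Subgroup.map_injective (f := e.toMonoidHom) e.injective ?_
      rw [MonoidHom.map_closure, Subgroup.map_top_of_surjective e.toMonoidHom e.surjective]
      exact (congrArg Subgroup.closure himg).trans hD.2.2
  · exact hc.cen (E x) (hcen ▸ Subgroup.mem_map_of_mem _ hx)
  · have h1 : e (bar hu) = e (bar hv) := congrArg e hb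
    rw [hbar, hbar] at h1
    obtain ⟨w, -, huniq⟩ := hlift _ (hin _ (show ((E ⟨v, Subgroup.subset_closure hv⟩ :
      ↥(Subgroup.centralizer ({a} : Set G))) : G) ∈ _ from hv))
    have e1 := huniq (E ⟨u, Subgroup.subset_closure hu⟩) ⟨h1, hu⟩
    have e2 := huniq (E ⟨v, Subgroup.subset_closure hv⟩) ⟨rfl, hv⟩
    exact congrArg Subtype.val (e1.trans e2.symm)

section Local

variable (h : Cen d) {a u v : G} (ha : a ∈ conjugatesOf d)
  (hu : u ∈ nbrs (conjugatesOf d) a) (hv : v ∈ nbrs (conjugatesOf d) a)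
include h ha

theorem loc_u6 : IsU6 (Qd (conjugatesOf d) a) := (loc_iso h ha).1

theorem loc_group : Cfsg.IsThreeTranspositionGroup (Db (conjugatesOf d) a) := (loc_iso h ha).2.1

theorem loc_center {x : ↥(Hd (conjugatesOf d) a)} (hx : x ∈ Subgroup.center _) :
    (x : G) = 1 ∨ (x : G) = a := (loc_iso h ha).2.2.1 x hx

theorem loc_sq : a * a = 1 := invol_mul_self (cen_of_mem h ha).ord

include hu hv

theorem loc_bar_inj (e : bar hu = bar hv) : u = v := (loc_iso h ha).2.2.2 hu hv e

/-- Conjugation of neighbours inside the neighbourhood group. -/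
theorem loc_conj_bar (g : ↥(Hd (conjugatesOf d) a))
    (e : (g : Qd (conjugatesOf d) a) * bar hu * (g : Qd (conjugatesOf d) a)⁻¹ = bar hv) :
    (g : G) * u * (g : G)⁻¹ = v :=
  (loc_iso h ha).2.2.2 (nbrs_conj' (loc_Hd h ha ▸ g.2) hu) hv e

theorem loc_third : ∃ hm : u * v * u ∈ nbrs (conjugatesOf d) a,
    bar hm = bar hu * bar hv * bar hu := by
  have hi : u⁻¹ = u := invol_inv (cen_of_mem h hu.1).ord
  have hm : u * v * u ∈ nbrs (conjugatesOf d) a := by
    have := nbrs_conj' (nbrs_centralizer hu) hv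
    rwa [hi] at this
  refine ⟨hm, ?_⟩
  show (QuotientGroup.mk _ : Qd _ a) = QuotientGroup.mk _ * QuotientGroup.mk _ * QuotientGroup.mk _
  rw [← QuotientGroup.mk_mul, ← QuotientGroup.mk_mul]; rfl

theorem loc_commute : Commute (bar hu) (bar hv) ↔ Commute u v := by
  refine ⟨fun e => ?_, fun e => ?_⟩
  · obtain ⟨hm, em⟩ := loc_third h ha hu hv
    have h1 : u * v * u = v := loc_bar_inj h ha hm hv (by
      rw [em, e.eq, mul_assoc, Trans3.sq_one (loc_group h ha).1 (bar_mem hu), mul_one])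
    show u * v = v * u
    calc u * v = u * (v * (u * u)) := by rw [invol_mul_self (cen_of_mem h hu.1).ord, mul_one]
      _ = u * v * u * u := by group
      _ = v * u := by rw [h1]
  · show (QuotientGroup.mk _ : Qd _ a) * QuotientGroup.mk _ = _
    rw [← QuotientGroup.mk_mul, ← QuotientGroup.mk_mul]
    exact congrArg QuotientGroup.mk (Subtype.ext e.eq)

theorem loc_braid (hn : ¬ Commute u v) : u * v * u = v * u * v := by
  obtain ⟨hm, em⟩ := loc_third h ha hu hv
  obtain ⟨hm', em'⟩ := loc_third h ha hv hu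
  exact loc_bar_inj h ha hm hm' (by
    rw [em, em']
    exact Trans3.braid (loc_group h ha).1 (bar_mem hu) (bar_mem hv)
      fun e => hn ((loc_commute h ha hu hv).1 e))

theorem loc_prod : (u * v) ^ 2 = 1 ∨ (u * v) ^ 3 = 1 := by
  have su := invol_mul_self (cen_of_mem h hu.1).ord
  have sv := invol_mul_self (cen_of_mem h hv.1).ord
  by_cases e : Commute u v
  · left; rw [e.mul_pow, pow_two, pow_two, su, sv, one_mul]
  · right
    calc (u * v) ^ 3 = u * v * u * (v * u * v) := by rw [pow_succ, pow_two]; group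
      _ = u * v * u * (u * v * u) := by rw [loc_braid h ha hu hv e]
      _ = u * v * (u * u) * v * u := by group
      _ = 1 := by rw [su, mul_one, mul_assoc u v v, sv, mul_one, su]

end Local

end CfsgLib.InvChar.Fi22Inv
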