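import Cfsg.Agent.Lib.InvChar.Fi22Inv.Coords

/-!
A set of transvections closed under conjugation by its members, with at most the six points of a
hyperoval in its plane, is the set of 126 coded points.
-/

set_option autoImplicit false
set_option linter.unusedSectionVars false
set_option maxRecDepth 100000

namespace CfsgLib.InvChar.Fi22Inv

open CfsgLib.Trans3 CfsgLib.Trans3.Fi CfsgLib.InvChar.Fi22Inv.Data

namespace Data

theorem pts_head : ((List.range 9).all fun k => pts.getD k 1 == gens.getD k 1) = true := by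
  decide +kernel

theorem pts_steps : ((List.range 117).all fun t =>
    pts.getD (9 + t) 1 == tvc (pts.getD (steps.getD t (0, 0)).1 1)
      (pts.getD (steps.getD t (0, 0)).2 1)) = true := by decide +kernel

theorem plane_herm : ((List.range 64).all fun v => hexad.all fun h => herm v h == 0) = true := by
  decide +kernel

theorem plane_small : (plane.all fun v => decide (v < 64) && v != 0) = true := by decide +kernel

end Data

section

variable {F : Type*} [Field F] [Fintype F] (hF : Fintype.card F = 2 ^ 2) {ω : F}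
  (hω : ω + ω ^ 2 = 1)
variable {Y : Type*} [Group Y] {D : Set Y} (f : ↥(Cfsg.SU 6 F 2) →* Y)
  (hf : Function.Surjective f) (hk : f.ker = Subgroup.center ↥(Cfsg.SU 6 F 2))
  (hD : Cfsg.IsThreeTranspositionGroup D)

/-- The transvection of a code. -/
noncomputable def cpt (ω : F) (b : Fin 6 → Fin 6 → F) (v : Nat) : Y := pt hF f (phi ω b v)

/-- A code of a member. -/
def InS (ω : F) (b : Fin 6 → Fin 6 → F) (S : Set Y) (v : Nat) : Prop :=
  phi ω b v ≠ 0 ∧ hh (phi ω b v) (phi ω b v) = 0 ∧ cpt hF f ω b v ∈ S

variable {b : Fin 6 → Fin 6 → F} (hb : ∀ i j : Fin 6, hh (b i) (b j) = if j = i + 3 then 1 else 0)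
variable {S : Set Y} (hcl : ∀ p ∈ S, ∀ x ∈ S, p * x * p ∈ S)

include hω hb hf hD in
theorem cpt_tvc {p x : Nat} (hp : phi ω b p ≠ 0) (hpp : hh (phi ω b p) (phi ω b p) = 0)
    (hxx : hh (phi ω b x) (phi ω b x) = 0) :
    cpt hF f ω b (tvc p x) = cpt hF f ω b p * cpt hF f ω b x * cpt hF f ω b p := by
  rw [cpt, cpt, cpt, third hF f hf hD hp hpp hxx, phi_tvc hF hω hb]

include hω hb hf hD hcl in
theorem inS_tvc {p x : Nat} (hp : InS hF f ω b S p) (hx : InS hF f ω b S x) :
    InS hF f ω b S (tvc p x) := by
  obtain ⟨p0, pp, pS⟩ := hp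
  obtain ⟨x0, xx, xS⟩ := hx
  refine ⟨?_, ?_, cpt_tvc hF hω f hf hD hb p0 pp xx ▸ hcl _ pS _ xS⟩
  · rw [phi_tvc hF hω hb, ← tv_act hF pp]
    exact fun e => x0 (by
      have := congrArg (act (tv hF (phi ω b p))⁻¹) e
      rwa [act_inv, act, Matrix.mulVec_zero] at this)
  · rw [phi_tvc hF hω hb, ← tv_act hF pp, hh_act]
    exact xx

include hω in
theorem cpt_scal {c v : Nat} (hc : c < 4) (hc0 : c ≠ 0) (hvv : hh (phi ω b v) (phi ω b v) = 0) :
    cpt hF f ω b (scal c v) = cpt hF f ω b v := by
  rw [cpt, cpt, phi_scal hF hω hc, pt_smul hF f hvv fun e => hc0 (iota_eq_zero hF hω hc e)]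

include hω in
theorem inS_scal {c v : Nat} (hc : c < 4) (hc0 : c ≠ 0) :
    InS hF f ω b S (scal c v) ↔ InS hF f ω b S v := by
  have h0 : iota ω c ≠ 0 := fun e => hc0 (iota_eq_zero hF hω hc e)
  have h1 : hh (phi ω b (scal c v)) (phi ω b (scal c v)) = 0 ↔
      hh (phi ω b v) (phi ω b v) = 0 := by
    rw [phi_scal hF hω hc, hh_smul_left hF, hh_smul_right hF]
    simp [h0]
  unfold InS
  rw [h1, phi_scal hF hω hc, smul_ne_zero_iff]
  refine and_congr (and_iff_right h0) ⟨fun h => ⟨h.1, cpt_scal hF hω f hc hc0 h.1 ▸ h.2⟩,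
    fun h => ⟨h.1, (cpt_scal hF hω f hc hc0 h.1).symm ▸ h.2⟩⟩

include hω in
theorem inS_peq {v w : Nat} (h : peq v w = true) (hv : InS hF f ω b S v) :
    InS hF f ω b S w ∧ cpt hF f ω b w = cpt hF f ω b v := by
  simp only [peq, Bool.or_eq_true, beq_iff_eq] at h
  rcases h with (rfl | rfl) | rfl
  · exact ⟨hv, rfl⟩
  · exact ⟨(inS_scal hF hω f (by norm_num) (by norm_num)).2 hv,
      cpt_scal hF hω f (by norm_num) (by norm_num) hv.2.1⟩
  · exact ⟨(inS_scal hF hω f (by norm_num) (by norm_num)).2 hv,
      cpt_scal hF hω f (by norm_num) (by norm_num) hv.2.1⟩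

theorem getD_inS {env : List Nat} (he : ∀ v ∈ env, InS hF f ω b S v) (h1 : InS hF f ω b S 1)
    (i : Nat) : InS hF f ω b S (env.getD i 1) := by
  rcases Nat.lt_or_ge i env.length with h | h
  · rw [List.getD_eq_getElem _ _ h]; exact he _ (List.getElem_mem h)
  · rwa [List.getD_eq_default _ _ h]

include hω hb hf hD hcl in
theorem run_inS (h1 : InS hF f ω b S 1) : ∀ (l : List (Nat × Nat)) (env : List Nat),
    (∀ v ∈ env, InS hF f ω b S v) → ∀ v ∈ run env l, InS hF f ω b S v := by
  intro l
  induction l with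
  | nil => exact fun env he => he
  | cons s t ih =>
    intro env he
    refine ih _ fun v hv => ?_
    rcases List.mem_append.1 hv with hv | hv
    · exact he v hv
    · rw [List.mem_singleton.1 hv]
      exact inS_tvc hF hω f hf hD hb hcl (getD_inS hF f he h1 _) (getD_inS hF f he h1 _)

variable (hbase : ∀ v ∈ Data.base, InS hF f ω b S v)
  (hbad : ∀ v < 64, badP v = true → ¬ InS hF f ω b S v)

include hω hb hf hD hcl hbase hbad in
theorem y0_inS {r p : Nat} (hr : r < 4) (hp : p < 64)
    (hc : InS hF f ω b S (p + 64 + 256 * r)) : InS hF f ω b S y0 := by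
  have hiso : herm (p + 64 + 256 * r) (p + 64 + 256 * r) = 0 := by
    have h := hc.2.1
    rw [hh_phi hF hω hb] at h
    refine iota_eq_zero hF hω ?_ h
    unfold herm
    exact Nat.xor_lt_two_pow (n := 2) (Nat.xor_lt_two_pow (n := 2) (Nat.xor_lt_two_pow (n := 2)
      (Nat.xor_lt_two_pow (n := 2) (Nat.xor_lt_two_pow (n := 2) mul4_lt mul4_lt) mul4_lt) mul4_lt)
      mul4_lt) mul4_lt
  obtain ⟨c, hcm, ec⟩ := List.any_eq_true.1 ((cands_all r hr p hp).resolve_left fun h => h hiso)
  rw [beq_iff_eq] at ec
  have hok := List.all_eq_true.1 cands_ok c hcm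
  have h1 : InS hF f ω b S 1 := hbase 1 (by decide)
  obtain ⟨v, ev⟩ : ∃ v, v = (run (Data.base ++ [c.1]) c.2.1).getD c.2.2 1 := ⟨_, rfl⟩
  have hv : InS hF f ω b S v := by
    rw [ev]
    refine getD_inS hF f (run_inS hF hω f hf hD hb hcl h1 _ _ fun u hu => ?_) h1 _
    rcases List.mem_append.1 hu with hu | hu
    · exact hbase u hu
    · rw [List.mem_singleton.1 hu, ec]; exact hc
  simp only [candOk, ← ev, Bool.or_eq_true] at hok
  rcases hok with hok | hok
  · refine absurd hv (hbad v ?_ hok)
    simp only [badP, Bool.and_eq_true, decide_eq_true_eq] at hok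
    exact hok.1.2
  · exact (inS_peq hF hω f hok hv).1

include hω hb hf hk hD hcl hbase hbad in
/-- The set is the list of 126. -/
theorem rigid (hS : S ⊆ D) {r p : Nat} (hr : r < 4) (hp : p < 64)
    (hc : InS hF f ω b S (p + 64 + 256 * r)) :
    ∃ s : Fin 126 → Y, Function.Injective s ∧ Set.range s = S ∧
      (∀ g k k' : Fin 126, g.1 < 9 → k'.1 = (perms.getD g.1 []).getD k.1 0 →
        s g * s k * s g = s k') ∧
      ∀ t < 117, ∀ k a c : Fin 126, k.1 = 9 + t → a.1 = (steps.getD t (0, 0)).1 →
        c.1 = (steps.getD t (0, 0)).2 → s k = s a * s c * s a := by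
  have hy0 := y0_inS hF hω f hf hD hb hcl hbase hbad hr hp hc
  have hgen : ∀ k < 9, InS hF f ω b S (gens.getD k 1) := fun k _ => by
    refine getD_inS hF f (fun v hv => ?_) (hbase 1 (by decide)) k
    rcases List.mem_append.1 hv with hv | hv
    · exact hbase v hv
    · rw [List.mem_singleton.1 hv]; exact hy0
  have hsteps := vecs_steps
  simp only [List.all_eq_true, List.mem_range, Bool.and_eq_true, decide_eq_true_eq] at hsteps
  have hstep := pts_steps
  simp only [List.all_eq_true, List.mem_range, beq_iff_eq] at hstep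
  have hhead := pts_head
  simp only [List.all_eq_true, List.mem_range, beq_iff_eq] at hhead
  have hin : ∀ k < 126, InS hF f ω b S (pts.getD k 1) := by
    intro k
    induction k using Nat.strong_induction_on with
    | _ k ih =>
      intro hk
      rcases Nat.lt_or_ge k 9 with h9 | h9
      · rw [hhead k h9]; exact hgen k h9
      · obtain ⟨t, rfl⟩ : ∃ t, k = 9 + t := ⟨k - 9, by omega⟩
        obtain ⟨⟨b1, b2⟩, -⟩ := hsteps t (by omega)
        rw [hstep t (by omega)]
        exact inS_tvc hF hω f hf hD hb hcl (ih _ b1 (by omega)) (ih _ b2 (by omega))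
  have hinj := pts_inj
  simp only [List.all_eq_true, List.mem_range, Bool.or_eq_true, beq_iff_eq,
    Bool.not_eq_true'] at hinj
  have hprops := pts_props
  simp only [List.all_eq_true, Bool.and_eq_true, decide_eq_true_eq, bne_iff_ne] at hprops
  have hlt : ∀ k < 126, pts.getD k 1 < 4096 := fun k hk' => by
    have hk'' : k < pts.length := pts_len.1.symm ▸ hk'
    rw [List.getD_eq_getElem _ _ hk'']
    exact (hprops _ (List.getElem_mem hk'')).1.2
  refine ⟨fun k => cpt hF f ω b (pts.getD k.1 1), fun i j e => ?_, ?_, fun g k k' hg ek => ?_,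
    fun t ht k a c ek ea ec => ?_⟩
  · by_contra hne
    obtain ⟨a, ha0, ha⟩ := pt_eq hF f hk (hin i i.isLt).1 (hin i i.isLt).2.1 (hin j j.isLt).2.1 e
    obtain ⟨c, hc4, rfl⟩ := iota_surj hF hω a
    rw [← phi_scal hF hω hc4] at ha
    have h0 : phi ω b (pts.getD i.1 1 ^^^ scal c (pts.getD j.1 1)) = 0 := by
      rw [phi_xor hF hω, ← ha, vec_add_self hF]
    have he : pts.getD i.1 1 ^^^ scal c (pts.getD j.1 1) = 0 := by
      by_contra hn
      exact phi_ne_zero hF hω hb (Nat.xor_lt_two_pow (n := 12) (hlt i i.isLt) (scal_lt _ _)) hn h0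
    rw [Nat.xor_eq_zero_iff] at he
    have hp' := (hinj j.1 j.isLt i.1 i.isLt).resolve_left (fun e' => hne (Fin.ext e'.symm))
    have hc0 : c ≠ 0 := fun e' => ha0 (by rw [e']; rfl)
    interval_cases c
    · exact hc0 rfl
    · have h1 : scal 1 (pts.getD j.1 1) = pts.getD j.1 1 := by
        have : ((List.range 126).all fun k => scal 1 (pts.getD k 1) == pts.getD k 1) = true := by
          decide +kernel
        simp only [List.all_eq_true, List.mem_range, beq_iff_eq] at this
        exact this j.1 j.isLt
      rw [h1] at he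
      simp only [peq, Bool.or_eq_false_iff, beq_eq_false_iff_ne] at hp'
      exact hp'.1.1 he.symm
    · simp only [peq, Bool.or_eq_false_iff, beq_eq_false_iff_ne] at hp'
      exact hp'.1.2 he.symm
    · simp only [peq, Bool.or_eq_false_iff, beq_eq_false_iff_ne] at hp'
      exact hp'.2 he.symm
  · refine Set.Subset.antisymm (by rintro _ ⟨k, rfl⟩; exact (hin k k.isLt).2.2) fun x hx => ?_
    obtain ⟨q, q0, qq, rfl⟩ := exists_pt hF f hf hk hD (hS hx)
    obtain ⟨v, hv, rfl⟩ := phi_surj hF hω hb q
    have hvS : InS hF f ω b S v := ⟨q0, qq, hx⟩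
    have hout : ∀ {m u : Nat}, (∀ w, Nat.testBit m w = true → ¬ InS hF f ω b S w) →
        ¬ InS hF f ω b S u → ∀ w, Nat.testBit (mark m u) w = true → ¬ InS hF f ω b S w := by
      intro m u hm hu w hw
      simp only [mark, Nat.testBit_lor, Bool.or_eq_true, Nat.one_shiftLeft, Nat.testBit_two_pow,
        decide_eq_true_eq] at hw
      rcases hw with ((hw | rfl) | rfl) | rfl
      · exact hm w hw
      · exact hu
      · exact fun h => hu ((inS_scal hF hω f (by norm_num) (by norm_num)).1 h)
      · exact fun h => hu ((inS_scal hF hω f (by norm_num) (by norm_num)).1 h)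
    have hplane : ∀ (l : List Nat), (∀ u ∈ l, u < 64) → ∀ m,
        (∀ w, Nat.testBit m w = true → ¬ InS hF f ω b S w) →
        ∀ w, Nat.testBit (l.foldl (fun m v => if badP v then mark m v else m) m) w = true →
          ¬ InS hF f ω b S w := by
      intro l
      induction l with
      | nil => exact fun _ m hm => hm
      | cons u t ih =>
        intro hl m hm
        refine ih (fun w hw => hl w (List.mem_cons_of_mem _ hw)) _ ?_
        show ∀ w, Nat.testBit (if badP u then mark m u else m) w = true → _
        split_ifs with hu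
        · exact hout hm (hbad u (hl u List.mem_cons_self) hu)
        · exact hm
    have hnone : ∀ l : List (Nat × Nat), l.foldl link none = none := by
      intro l; induction l with
      | nil => rfl
      | cons e t ih => exact ih
    have hchain : ∀ (l : List (Nat × Nat)) (m m' : Nat),
        (∀ w, Nat.testBit m w = true → ¬ InS hF f ω b S w) → l.foldl link (some m) = some m' →
        ∀ w, Nat.testBit m' w = true → ¬ InS hF f ω b S w := by
      intro l
      induction l with
      | nil => intro m m' hm e; cases e; exact hm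
      | cons e t ih =>
        intro m m' hm he
        rw [List.foldl_cons] at he
        simp only [link, Option.bind_some] at he
        split_ifs at he with ht'
        · refine ih _ _ (hout hm fun hu => hm _ ht' ?_) he
          refine inS_tvc hF hω f hf hD hb hcl ?_ hu
          refine getD_inS hF f (fun w hw => ?_) (hbase 1 (by decide)) _
          rcases List.mem_append.1 hw with hw | hw
          · exact hbase w hw
          · rw [List.mem_singleton.1 hw]; exact hy0
        · rw [hnone] at he; cases he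
    have hok := chain_ok
    split at hok
    swap
    · cases hok
    rename_i m hm
    simp only [List.all_eq_true, List.mem_range, Bool.or_eq_true, beq_iff_eq, bne_iff_ne] at hok
    have hiso : herm v v = 0 := by
      have h := hvS.2.1
      rw [hh_phi hF hω hb] at h
      refine iota_eq_zero hF hω ?_ h
      unfold herm
      exact Nat.xor_lt_two_pow (n := 2) (Nat.xor_lt_two_pow (n := 2) (Nat.xor_lt_two_pow (n := 2)
        (Nat.xor_lt_two_pow (n := 2) (Nat.xor_lt_two_pow (n := 2) mul4_lt mul4_lt) mul4_lt) mul4_lt)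
        mul4_lt) mul4_lt
    have hv0 : v ≠ 0 := by
      rintro rfl
      exact q0 (by simp [phi, dig, iota])
    have hbit := (hok v hv).resolve_left (fun h => h.elim hv0 fun h => h hiso)
    rw [Nat.testBit_lor, Bool.or_eq_true] at hbit
    rcases hbit with hbit | hbit
    · refine absurd hvS (hchain chain planeMask m ?_ hm v hbit)
      exact hplane _ (fun u hu => List.mem_range.1 hu) 0 (fun w hw => by simp at hw)
    · have hsc : ∀ (l : List Nat) (m : Nat), Nat.testBit (l.foldl mark m) v = true →
          Nat.testBit m v = true ∨ ∃ u ∈ l, v = u ∨ v = scal 2 u ∨ v = scal 3 u := by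
        intro l
        induction l with
        | nil => exact fun m h => Or.inl h
        | cons u t ih =>
          intro m h
          rcases ih _ h with h | ⟨w, hw, h⟩
          · simp only [mark, Nat.testBit_lor, Bool.or_eq_true, Nat.one_shiftLeft,
              Nat.testBit_two_pow, decide_eq_true_eq] at h
            rcases h with ((h | h) | h) | h
            · exact Or.inl h
            · exact Or.inr ⟨u, List.mem_cons_self, Or.inl h.symm⟩
            · exact Or.inr ⟨u, List.mem_cons_self, Or.inr (Or.inl h.symm)⟩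
            · exact Or.inr ⟨u, List.mem_cons_self, Or.inr (Or.inr h.symm)⟩
          · exact Or.inr ⟨w, List.mem_cons_of_mem _ hw, h⟩
      rcases hsc pts 0 hbit with h | ⟨u, hu, h⟩
      · simp at h
      obtain ⟨k, hk', rfl⟩ := List.mem_iff_getElem.1 hu
      have hk'' : k < 126 := pts_len.1 ▸ hk'
      refine ⟨⟨k, hk''⟩, ?_⟩
      show cpt hF f ω b (pts.getD k 1) = cpt hF f ω b v
      rw [List.getD_eq_getElem _ _ hk']
      have hu' : InS hF f ω b S pts[k] := by
        have := hin k hk''
        rwa [List.getD_eq_getElem _ _ hk'] at this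
      rcases h with rfl | rfl | rfl
      · rfl
      · exact (cpt_scal hF hω f (by norm_num) (by norm_num) hu'.2.1).symm
      · exact (cpt_scal hF hω f (by norm_num) (by norm_num) hu'.2.1).symm
  · have hpm := perms_pts
    simp only [List.all_eq_true, List.mem_range, Bool.and_eq_true, decide_eq_true_eq] at hpm
    obtain ⟨-, hq⟩ := hpm g.1 hg k.1 k.isLt
    rw [← ek] at hq
    have hi := inS_tvc hF hω f hf hD hb hcl (hin g g.isLt) (hin k k.isLt)
    show cpt hF f ω b _ * cpt hF f ω b _ * cpt hF f ω b _ = _
    rw [← cpt_tvc hF hω f hf hD hb (hin g g.isLt).1 (hin g g.isLt).2.1 (hin k k.isLt).2.1]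
    exact ((inS_peq hF hω f hq hi).2).symm
  · show cpt hF f ω b _ = cpt hF f ω b _ * cpt hF f ω b _ * cpt hF f ω b _
    rw [← cpt_tvc hF hω f hf hD hb (hin a a.isLt).1 (hin a a.isLt).2.1 (hin c c.isLt).2.1, ek, ea,
      ec, hstep t ht]

end

end CfsgLib.InvChar.Fi22Inv
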