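import Cfsg.Agent.Lib.InvChar.Fi22Inv.RigidData
import Mathlib.Data.List.Range

/-!
Finite checks on the tables of the 126 common partners.
-/

set_option autoImplicit false
set_option maxRecDepth 1000000

namespace CfsgLib.InvChar.Fi22Inv.Data

/-- base four digit -/
def dig (v i : Nat) : Nat := (v >>> (2 * i)) &&& 3

/-- product in the field with four elements -/
def mul4 (a b : Nat) : Nat := (0x9c78e400 >>> (2 * (4 * a + b))) &&& 3

/-- conjugate -/
def conj4 (a : Nat) : Nat := mul4 a a

/-- the form -/
def herm (x p : Nat) : Nat :=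
  mul4 (dig x 0) (conj4 (dig p 3)) ^^^ mul4 (dig x 1) (conj4 (dig p 4)) ^^^
    mul4 (dig x 2) (conj4 (dig p 5)) ^^^ mul4 (dig x 3) (conj4 (dig p 0)) ^^^
    mul4 (dig x 4) (conj4 (dig p 1)) ^^^ mul4 (dig x 5) (conj4 (dig p 2))

/-- scalar multiple -/
def scal (c v : Nat) : Nat :=
  mul4 c (dig v 0) + 4 * mul4 c (dig v 1) + 16 * mul4 c (dig v 2) + 64 * mul4 c (dig v 3) +
    256 * mul4 c (dig v 4) + 1024 * mul4 c (dig v 5)

/-- transvection -/
def tvc (p x : Nat) : Nat := x ^^^ scal (herm x p) p

/-- equal points -/
def peq (v w : Nat) : Bool := v == w || scal 2 v == w || scal 3 v == w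

/-- the hexad -/
def hexad : List Nat := [1, 4, 16, 21, 57, 45]

/-- the first eight -/
def base : List Nat := hexad ++ [1024, 256]

/-- the ninth -/
def y0 : Nat := 64

/-- the nine generators -/
def gens : List Nat := base ++ [y0]

/-- a plane point outside the hexad -/
def badP (v : Nat) : Bool := v != 0 && decide (v < 64) && !(hexad.any fun h => peq v h)

/-- one derivation step -/
def step (env : List Nat) (s : Nat × Nat) : List Nat :=
  env ++ [tvc (env.getD s.1 1) (env.getD s.2 1)]

/-- derivations -/
def run (env : List Nat) (l : List (Nat × Nat)) : List Nat := l.foldl step env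

/-- a candidate is either impossible or gives the ninth point -/
def candOk (c : Nat × List (Nat × Nat) × Nat) : Bool :=
  let v := (run (base ++ [c.1]) c.2.1).getD c.2.2 1
  badP v || peq v y0

/-- add the three multiples -/
def mark (m v : Nat) : Nat := m ||| 1 <<< v ||| 1 <<< scal 2 v ||| 1 <<< scal 3 v

/-- the points which cannot be members -/
def planeMask : Nat := (List.range 64).foldl (fun m v => if badP v then mark m v else m) 0

/-- one link of the chain -/
def link (s : Option Nat) (e : Nat × Nat) : Option Nat :=
  s.bind fun m => if Nat.testBit m (tvc (gens.getD e.2 1) e.1) then some (mark m e.1) else none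

/-- the points of the 126 -/
def ptsMask : Nat := pts.foldl mark 0

/-- reflection on coded vectors -/
def dig3 (v i : Nat) : Nat := v / 3 ^ i % 3

/-- dot product -/
def dot3 (v w : Nat) : Nat :=
  (dig3 v 0 * dig3 w 0 + dig3 v 1 * dig3 w 1 + dig3 v 2 * dig3 w 2 + dig3 v 3 * dig3 w 3 +
    dig3 v 4 * dig3 w 4 + dig3 v 5 * dig3 w 5) % 3

/-- `x + (x·v) v` -/
def refl3 (v x : Nat) : Nat :=
  let c := dot3 x v
  (dig3 x 0 + c * dig3 v 0) % 3 + 3 * ((dig3 x 1 + c * dig3 v 1) % 3) +
    9 * ((dig3 x 2 + c * dig3 v 2) % 3) + 27 * ((dig3 x 3 + c * dig3 v 3) % 3) +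
    81 * ((dig3 x 4 + c * dig3 v 4) % 3) + 243 * ((dig3 x 5 + c * dig3 v 5) % 3)

/-- negation -/
def neg3 (v : Nat) : Nat :=
  2 * dig3 v 0 % 3 + 3 * (2 * dig3 v 1 % 3) + 9 * (2 * dig3 v 2 % 3) + 27 * (2 * dig3 v 3 % 3) +
    81 * (2 * dig3 v 4 % 3) + 243 * (2 * dig3 v 5 % 3)

/-- equal reflections -/
def req (v w : Nat) : Bool := v == w || neg3 v == w

theorem cands_ok : cands.all candOk = true := by decide +kernel

theorem cands_all : ∀ r < 4, ∀ p < 64, herm (p + 64 + 256 * r) (p + 64 + 256 * r) ≠ 0 ∨
    (cands.any fun c => c.1 == p + 64 + 256 * r) = true := by decide +kernel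

theorem pts_run : run gens steps = pts := by decide +kernel

theorem pts_len : pts.length = 126 ∧ vecs.length = 126 ∧ steps.length = 117 := by decide +kernel

theorem chain_ok : (match chain.foldl link (some planeMask) with
    | some m => (List.range 4096).all fun v =>
        v == 0 || herm v v != 0 || Nat.testBit (m ||| ptsMask) v
    | none => false) = true := by decide +kernel

theorem pts_props : (pts.all fun v => v != 0 && decide (v < 4096) && herm v v == 0) = true := by
  decide +kernel

theorem pts_inj : ((List.range 126).all fun i => (List.range 126).all fun j =>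
    i == j || !(peq (pts.getD i 1) (pts.getD j 1))) = true := by decide +kernel

theorem perms_pts : ((List.range 9).all fun g => (List.range 126).all fun k =>
    decide ((perms.getD g []).getD k 0 < 126) &&
      peq (tvc (pts.getD g 1) (pts.getD k 1)) (pts.getD ((perms.getD g []).getD k 0) 1)) = true := by
  decide +kernel

theorem perms_vecs : ((List.range 9).all fun g => (List.range 126).all fun k =>
    req (refl3 (vecs.getD g 1) (vecs.getD k 1))
      (vecs.getD ((perms.getD g []).getD k 0) 1)) = true := by decide +kernel

theorem vecs_steps : ((List.range 117).all fun t =>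
    decide ((steps.getD t (0, 0)).1 < 9 + t) && decide ((steps.getD t (0, 0)).2 < 9 + t) &&
      req (refl3 (vecs.getD (steps.getD t (0, 0)).1 1) (vecs.getD (steps.getD t (0, 0)).2 1))
        (vecs.getD (9 + t) 1)) = true := by decide +kernel

theorem vecs_all : ((List.range 729).all fun v =>
    dot3 v v != 1 || vecs.any fun w => req v w) = true := by decide +kernel

theorem vecs_props : (vecs.all fun v => decide (v < 729) && dot3 v v == 1) = true := by
  decide +kernel

theorem vecs_inj : ((List.range 126).all fun i => (List.range 126).all fun j =>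
    i == j || !(req (vecs.getD i 1) (vecs.getD j 1))) = true := by decide +kernel

end CfsgLib.InvChar.Fi22Inv.Data
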