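import Cfsg.Agent.Lib.InvChar.Fi22Inv.RigidCheck
import Cfsg.Agent.Lib.Trans3.FiConf.Dots
import Cfsg.Agent.Lib.Geom.ReflThreeGraph

/-!
A group generated by 126 elements permuting one another as in the tables is, modulo its centre, one
fixed permutation group; the reflection group of the sum of six squares is such a group.
-/

set_option autoImplicit false
set_option linter.unusedSectionVars false
set_option maxRecDepth 100000

namespace CfsgLib.InvChar.Fi22Inv

open CfsgLib.InvChar.Fi22Inv.Data CfsgLib.Geom CfsgLib.Geom.ReflThree CfsgLib.Trans3.FiConf.Dots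

local instance factPrimeThreeFiTable : Fact (Nat.Prime 3) := ⟨Nat.prime_three⟩

/-- The permutations of the first nine. -/
def tableGroup : Subgroup (Equiv.Perm (Fin 126)) :=
  Subgroup.closure {p | ∃ g : Fin 126, g.1 < 9 ∧ ∀ k, (p k).1 = (perms.getD g.1 []).getD k.1 0}

theorem perm_lt {g k : Nat} (hg : g < 9) (hk : k < 126) : (perms.getD g []).getD k 0 < 126 := by
  have h := perms_pts
  simp only [List.all_eq_true, List.mem_range, Bool.and_eq_true, decide_eq_true_eq] at h
  exact (h g hg k hk).1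

theorem step_lt {t : Nat} (ht : t < 117) :
    (steps.getD t (0, 0)).1 < 9 + t ∧ (steps.getD t (0, 0)).2 < 9 + t := by
  have h := vecs_steps
  simp only [List.all_eq_true, List.mem_range, Bool.and_eq_true, decide_eq_true_eq] at h
  exact (h t ht).1

section Abstract

variable {L : Type*} [Group L] (s : Fin 126 → L)

/-- Recognition by the tables. -/
theorem quot_table (hinj : Function.Injective s) (hgen : Subgroup.closure (Set.range s) = ⊤)
    (hsq : ∀ k, s k * s k = 1)
    (hperm : ∀ g k k' : Fin 126, g.1 < 9 → k'.1 = (perms.getD g.1 []).getD k.1 0 →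
      s g * s k * s g = s k')
    (hstep : ∀ t < 117, ∀ k a c : Fin 126, k.1 = 9 + t → a.1 = (steps.getD t (0, 0)).1 →
      c.1 = (steps.getD t (0, 0)).2 → s k = s a * s c * s a) :
    Nonempty (L ⧸ Subgroup.center L ≃* ↥tableGroup) := by
  classical
  obtain ⟨K, eK⟩ : ∃ K, K = Subgroup.closure (s '' {g | g.1 < 9}) := ⟨_, rfl⟩
  have hK : K = ⊤ := by
    rw [eK, eq_top_iff, ← hgen, Subgroup.closure_le]
    rintro _ ⟨⟨k, hk⟩, rfl⟩
    induction k using Nat.strong_induction_on with
    | _ k ih =>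
      by_cases h9 : k < 9
      · exact Subgroup.subset_closure ⟨⟨k, hk⟩, h9, rfl⟩
      · have ht : k - 9 < 117 := by omega
        obtain ⟨A, eA⟩ : ∃ A, A = (steps.getD (k - 9) (0, 0)).1 := ⟨_, rfl⟩
        obtain ⟨C, eC⟩ : ∃ C, C = (steps.getD (k - 9) (0, 0)).2 := ⟨_, rfl⟩
        obtain ⟨ha, hc⟩ := step_lt ht
        rw [← eA] at ha
        rw [← eC] at hc
        have hA : A < k := by omega
        have hC : C < k := by omega
        rw [hstep (k - 9) ht ⟨k, hk⟩ ⟨A, hA.trans hk⟩ ⟨C, hC.trans hk⟩ (by simp only; omega) eA eC]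
        exact mul_mem (mul_mem (ih A hA _) (ih C hC _)) (ih A hA _)
  have hinv : ∀ k, (s k)⁻¹ = s k := fun k => inv_eq_of_mul_eq_one_right (hsq k)
  have stable : ∀ x : L, ∀ k, ∃ k', x * s k * x⁻¹ = s k' := by
    intro x
    have hx : x ∈ K := hK ▸ Subgroup.mem_top x
    rw [eK] at hx
    induction hx using Subgroup.closure_induction_left with
    | one => exact fun k => ⟨k, by group⟩
    | mul_left u hu v _ ih =>
      obtain ⟨g, hg, rfl⟩ := hu
      intro k
      obtain ⟨k', hk'⟩ := ih k
      refine ⟨⟨_, perm_lt hg k'.2⟩, ?_⟩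
      rw [← hperm g k' ⟨_, perm_lt hg k'.2⟩ hg rfl, ← hk', mul_inv_rev, hinv]
      group
    | inv_mul_cancel u hu v _ ih =>
      obtain ⟨g, hg, rfl⟩ := hu
      intro k
      obtain ⟨k', hk'⟩ := ih k
      refine ⟨⟨_, perm_lt hg k'.2⟩, ?_⟩
      rw [← hperm g k' ⟨_, perm_lt hg k'.2⟩ hg rfl, ← hk', hinv, mul_inv_rev, hinv]
      group
  choose f hf using stable
  have fmul : ∀ x y k, f (x * y) k = f x (f y k) := fun x y k => hinj (by
    rw [← hf, ← hf, ← hf]; group)
  have fone : ∀ k, f 1 k = k := fun k => hinj (by rw [← hf]; group)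
  let φ : L →* Equiv.Perm (Fin 126) := MonoidHom.mk'
    (fun x => ⟨f x, f x⁻¹, fun k => by rw [← fmul, inv_mul_cancel, fone],
      fun k => by rw [← fmul, mul_inv_cancel, fone]⟩)
    fun x y => Equiv.ext fun k => fmul x y k
  have hφ : ∀ x k, x * s k * x⁻¹ = s (φ x k) := hf
  have hker : φ.ker = Subgroup.center L := by
    ext x
    rw [MonoidHom.mem_ker, Subgroup.mem_center_iff]
    constructor
    · intro e w
      have hw : w ∈ Subgroup.closure (Set.range s) := hgen ▸ Subgroup.mem_top w
      refine (Subgroup.mem_centralizer_iff.1 ((Subgroup.closure_le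
        (Subgroup.centralizer ({x} : Set L))).2 ?_ hw) x rfl).symm
      rintro _ ⟨k, rfl⟩
      have h1 := hφ x k
      rw [e, Equiv.Perm.one_apply, mul_inv_eq_iff_eq_mul] at h1
      exact Subgroup.mem_centralizer_singleton_iff.2 h1.symm
    · intro hc
      refine Equiv.ext fun k => hinj ?_
      rw [← hφ, ← hc (s k), mul_inv_cancel_right, Equiv.Perm.one_apply]
  have hrange : φ.range = tableGroup := by
    rw [MonoidHom.range_eq_map, ← hK, eK, MonoidHom.map_closure, tableGroup]
    congr 1
    ext p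
    constructor
    · rintro ⟨_, ⟨g, hg, rfl⟩, rfl⟩
      refine ⟨g, hg, fun k => ?_⟩
      have h1 := hperm g k ⟨_, perm_lt hg k.2⟩ hg rfl
      have h2 := hφ (s g) k
      rw [hinv, h1] at h2
      exact congrArg Fin.val (hinj h2).symm
    · rintro ⟨g, hg, hp⟩
      refine ⟨_, ⟨g, hg, rfl⟩, Equiv.ext fun k => ?_⟩
      have h1 := hperm g k (p k) hg (hp k)
      have h2 := hφ (s g) k
      rw [hinv, h1] at h2
      exact (hinj h2).symm
  exact ⟨(QuotientGroup.quotientMulEquivOfEq hker.symm).trans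
    ((QuotientGroup.quotientKerEquivRange φ).trans (MulEquiv.subgroupCongr hrange))⟩

end Abstract

/-- The vector of a code. -/
def dec (v : Nat) : Fin 6 → ZMod 3 := fun i => (dig3 v i.1 : ZMod 3)

theorem dot_dec (v w : Nat) : dot (dec v) (dec w) = (dot3 v w : ZMod 3) := by
  rw [dot3, ZMod.natCast_mod]
  simp [dot, dec]

theorem dig3_lt (v i : Nat) : dig3 v i < 3 := Nat.mod_lt _ (by norm_num)

theorem dig3_sum {a : Fin 6 → Nat} (ha : ∀ i, a i < 3) (i : Fin 6) :
    dig3 (a 0 + 3 * a 1 + 9 * a 2 + 27 * a 3 + 81 * a 4 + 243 * a 5) i.1 = a i := by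
  have := ha 0; have := ha 1; have := ha 2; have := ha 3; have := ha 4; have := ha 5
  simp only [dig3]
  fin_cases i <;> simp only [Fin.reduceFinMk] <;> norm_num <;> omega

theorem dec_refl3 (v x : Nat) : dec (refl3 v x) = dec x + dot (dec x) (dec v) • dec v := by
  funext i
  have h := dig3_sum (a := fun i : Fin 6 => (dig3 x i.1 + dot3 x v * dig3 v i.1) % 3)
    (fun _ => Nat.mod_lt _ (by norm_num)) i
  simp only [dec, Pi.add_apply, Pi.smul_apply, smul_eq_mul, dot_dec]
  rw [show refl3 v x = _ from rfl]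
  erw [h]
  rw [ZMod.natCast_mod, Nat.cast_add, Nat.cast_mul]

theorem dec_neg3 (v : Nat) : dec (neg3 v) = -dec v := by
  funext i
  have h := dig3_sum (a := fun i : Fin 6 => 2 * dig3 v i.1 % 3)
    (fun _ => Nat.mod_lt _ (by norm_num)) i
  simp only [dec, Pi.neg_apply]
  rw [show neg3 v = _ from rfl]
  erw [h]
  rw [ZMod.natCast_mod, Nat.cast_mul]
  exact (by decide : ∀ a : ZMod 3, ((2 : ℕ) : ZMod 3) * a = -a) _

theorem dec_inj {v w : Nat} (hv : v < 729) (hw : w < 729) (e : dec v = dec w) : v = w := by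
  have hd : ∀ i : Fin 6, dig3 v i.1 = dig3 w i.1 := fun i => by
    have := congrArg ZMod.val (congrFun e i)
    simpa [dec, ZMod.val_natCast, Nat.mod_eq_of_lt (dig3_lt _ _)] using this
  have h0 := hd 0; have h1 := hd 1; have h2 := hd 2; have h3 := hd 3; have h4 := hd 4; have h5 := hd 5
  simp only [dig3] at h0 h1 h2 h3 h4 h5
  norm_num at h0 h1 h2 h3 h4 h5
  omega

theorem dec_surj (x : Fin 6 → ZMod 3) : ∃ v < 729, dec v = x := by
  refine ⟨(x 0).val + 3 * (x 1).val + 9 * (x 2).val + 27 * (x 3).val + 81 * (x 4).val +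
    243 * (x 5).val, ?_, ?_⟩
  · have := (x 0).val_lt; have := (x 1).val_lt; have := (x 2).val_lt; have := (x 3).val_lt
    have := (x 4).val_lt; have := (x 5).val_lt
    omega
  · funext i
    rw [dec, dig3_sum (a := fun i => (x i).val) (fun i => (x i).val_lt) i, ZMod.natCast_zmod_val]

theorem req_dec {v w : Nat} (h : req v w = true) : dec w = dec v ∨ dec w = -dec v := by
  simp only [req, Bool.or_eq_true, beq_iff_eq] at h
  rcases h with rfl | rfl
  exacts [Or.inl rfl, Or.inr (dec_neg3 v)]

theorem refl_pm {g h : Og sq6} {u v : Fin 6 → ZMod 3} (hg : IsRefl sq6 g u) (hh : IsRefl sq6 h v)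
    (e : v = u ∨ v = -u) : g = h := by
  rcases e with rfl | rfl
  · exact hg.eq sq6 hh
  · refine og_ext sq6 fun x => ?_
    rw [hg.act_eq, hh.act_eq, QuadraticMap.map_neg, QuadraticMap.polar_neg_left, mul_neg, neg_smul_neg]

/-- The tables describe the reflection group. -/
theorem refl_table : Nonempty (↥(Cfsg.reflectionSubgroup (⇑sq6) 1) ⧸
    Subgroup.center ↥(Cfsg.reflectionSubgroup (⇑sq6) 1) ≃* ↥tableGroup) := by
  obtain ⟨vc, evc⟩ : ∃ vc : Fin 126 → Nat, vc = fun k => vecs.getD k.1 1 := ⟨_, rfl⟩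
  have hvc : ∀ k, vc k < 729 ∧ sq6 (dec (vc k)) = 1 := by
    intro k
    have h := vecs_props
    simp only [List.all_eq_true, Bool.and_eq_true, decide_eq_true_eq, beq_iff_eq] at h
    have hk : k.1 < vecs.length := by rw [pts_len.2.1]; exact k.2
    have := h (vc k) (by rw [evc]; simp only; rw [List.getD_eq_getElem _ _ hk]; exact List.getElem_mem hk)
    exact ⟨this.1, by rw [sq6_apply, dot_dec, this.2, Nat.cast_one]⟩
  have ex := fun k => exists_mem_class (Q := sq6) (dec (vc k)) (hvc k).2 one_ne_zero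
  choose s hs hs' using ex
  have hsq : ∀ k, s k * s k = 1 := fun k =>
    Subtype.ext ((hs' k).sq_ne sq6 (by rw [(hvc k).2]; exact one_ne_zero)).1
  have conj : ∀ g k k' : Fin 126, req (refl3 (vc g) (vc k)) (vc k') = true →
      s g * s k * s g = s k' := by
    intro g k k' hr
    refine Subtype.ext (refl_pm ?_ (hs' k') (req_dec hr))
    have h1 := (hs' k).conj sq6 (s g).1
    rw [inv_eq_of_mul_eq_one_right (congrArg Subtype.val (hsq g))] at h1
    rw [Subgroup.coe_mul, Subgroup.coe_mul, dec_refl3]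
    convert h1 using 1
    rw [(hs' g).act_eq, (hvc g).2, sq6_polar, inv_one, one_mul, dot_comm (dec (vc k)), sub_eq_add_neg,
      ← neg_smul]
    congr 2
    exact ((by decide : ∀ b : ZMod 3, -(2 * b) = b) _).symm
  refine quot_table s ?_ ?_ hsq ?_ ?_
  · intro i j e
    obtain ⟨c, hc⟩ := (hs' i).parallel sq6 (e ▸ hs' j) (by rw [(hvc j).2]; exact one_ne_zero)
    have h1 := congrArg (⇑sq6) hc
    rw [(hvc j).2, QuadraticMap.map_smul, (hvc i).2, smul_eq_mul, mul_one] at h1
    have hcases : dec (vc j) = dec (vc i) ∨ dec (vc j) = dec (neg3 (vc i)) := by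
      rw [dec_neg3]
      rcases (by decide : ∀ c : ZMod 3, 1 = c * c → c = 1 ∨ c = -1) c h1 with rfl | rfl
      · exact Or.inl (hc.trans (one_smul _ _))
      · exact Or.inr (hc.trans (neg_one_smul _ _))
    have hlt : neg3 (vc i) < 729 := by
      simp only [neg3]
      have := fun n => dig3_lt (vc i) n
      omega
    have hr : req (vc i) (vc j) = true := by
      simp only [req, Bool.or_eq_true, beq_iff_eq]
      exact hcases.imp (fun e => (dec_inj (hvc j).1 (hvc i).1 e).symm)
        fun e => (dec_inj (hvc j).1 hlt e).symm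
    have h := vecs_inj
    simp only [List.all_eq_true, List.mem_range, Bool.or_eq_true, beq_iff_eq, Bool.not_eq_true'] at h
    rcases h i.1 i.2 j.1 j.2 with e' | e'
    · exact Fin.ext e'
    · simp only [evc] at hr
      rw [hr] at e'
      exact absurd e' (by simp)
  · rw [eq_top_iff]
    intro x _
    have key : Cfsg.reflectionSubgroup (⇑sq6) 1 ≤
        (Subgroup.closure (Set.range s)).map (Cfsg.reflectionSubgroup (⇑sq6) 1).subtype := by
      refine (Subgroup.closure_le _).2 ?_
      rintro g ⟨v, hv, hg⟩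
      obtain ⟨n, hn, rfl⟩ := dec_surj v
      have h := vecs_all
      simp only [List.all_eq_true, List.mem_range, Bool.or_eq_true, bne_iff_ne, List.any_eq_true] at h
      rw [sq6_apply, dot_dec] at hv
      obtain ⟨w, hw, hr⟩ := (h n hn).resolve_left (not_not.2 (by
        have := congrArg ZMod.val hv
        rwa [ZMod.val_natCast, Nat.mod_eq_of_lt (show dot3 n n < 3 from Nat.mod_lt _ (by norm_num)),
          ZMod.val_one] at this))
      obtain ⟨k, hk, rfl⟩ := List.mem_iff_getElem.1 hw
      have hk' : k < 126 := by rw [← pts_len.2.1]; exact hk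
      refine ⟨s ⟨k, hk'⟩, Subgroup.subset_closure ⟨_, rfl⟩, (refl_pm hg (hs' ⟨k, hk'⟩) ?_).symm⟩
      simp only [evc, List.getD_eq_getElem _ _ hk]
      exact req_dec hr
    obtain ⟨y, hy, e⟩ := key x.2
    rwa [show x = y from Subtype.ext e.symm]
  · intro g k k' hg hk'
    refine conj g k k' ?_
    have h := perms_vecs
    simp only [List.all_eq_true, List.mem_range] at h
    have := h g.1 hg k.1 k.2
    rw [← hk'] at this
    simpa [evc] using this
  · intro t ht k a c hk ha hc
    refine (conj a c k ?_).symm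
    have h := vecs_steps
    simp only [List.all_eq_true, List.mem_range, Bool.and_eq_true] at h
    have := (h t ht).2
    rw [← ha, ← hc, ← hk] at this
    simpa [evc] using this

end CfsgLib.InvChar.Fi22Inv
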