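import Cfsg.Agent.Lib.InvChar.Fi22Inv.Hexad
import Cfsg.Agent.Lib.InvChar.Fi22Inv.Table
import Cfsg.Agent.Lib.Trans3.Fi.SumIso

/-!
A component, with the group it generates, is of type M(22).
-/

set_option autoImplicit false
set_option linter.unusedSectionVars false

namespace CfsgLib.InvChar.Fi22Inv

open CfsgLib.Trans3 CfsgLib.Trans3.Fi

theorem quot_center_map {A B : Type*} [Group A] [Group B] (f : A →* B) (hf : Function.Injective f)
    (S : Set A) : Nonempty (↥(Subgroup.closure S) ⧸ Subgroup.center ↥(Subgroup.closure S) ≃*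
      ↥(Subgroup.closure (f '' S)) ⧸ Subgroup.center ↥(Subgroup.closure (f '' S))) := by
  let e : ↥(Subgroup.closure S) ≃* ↥(Subgroup.closure (f '' S)) :=
    ((Subgroup.closure S).equivMapOfInjective f hf).trans
      (MulEquiv.subgroupCongr (MonoidHom.map_closure f S))
  exact ⟨QuotientGroup.congr _ _ e (map_center_equiv e)⟩

variable {G : Type*} [Group G] [Finite G] {d : G} (h : Cen d)
include h

/-- The group of the common neighbours modulo its centre. -/
theorem pair_table {a c : G} (ha : a ∈ conjugatesOf d) (hc : c ∈ Comp d a) (hac : ¬ Commute a c) :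
    Nonempty (↥(Subgroup.closure (nbrs (conjugatesOf d) a ∩ nbrs (conjugatesOf d) c)) ⧸
      Subgroup.center ↥(Subgroup.closure (nbrs (conjugatesOf d) a ∩ nbrs (conjugatesOf d) c)) ≃*
      ↥tableGroup) := by
  classical
  obtain ⟨hx, y₁, y₂, y₃, H⟩ := exists_hex h ha hc hac
  obtain ⟨s, sinj, srange, sperm, sstep⟩ := exists_coords_u6 (loc_u6 h ha) (loc_group h ha) H
  have hm : ∀ k, s k ∈ comS d a c := fun k => srange ▸ ⟨k, rfl⟩
  choose y hy hbar hcy using hm
  have hyc : ∀ k, y k ∈ nbrs (conjugatesOf d) c :=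
    fun k => ⟨(hy k).1, fun e => hac (e ▸ (hy k).2.2), hcy k⟩
  have hrange : Set.range y = nbrs (conjugatesOf d) a ∩ nbrs (conjugatesOf d) c := by
    refine Set.Subset.antisymm (Set.range_subset_iff.2 fun k => ⟨hy k, hyc k⟩) fun x hx => ?_
    obtain ⟨k, hk⟩ : bar hx.1 ∈ Set.range s := srange ▸ ⟨x, hx.1, rfl, hx.2.2.2⟩
    exact ⟨k, loc_bar_inj h ha (hy k) hx.1 ((hbar k).symm.trans hk)⟩
  obtain ⟨Y, eY⟩ : ∃ Y : Fin 126 → ↥(Subgroup.closure (nbrs (conjugatesOf d) a ∩ nbrs (conjugatesOf d) c)),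
      ∀ k, (Y k : G) = y k :=
    ⟨fun k => ⟨y k, Subgroup.subset_closure (hrange ▸ ⟨k, rfl⟩)⟩, fun _ => rfl⟩
  have third : ∀ g k k', s g * s k * s g = s k' → Y g * Y k * Y g = Y k' := by
    intro g k k' e
    obtain ⟨hm, em⟩ := loc_third h ha (hy g) (hy k)
    refine Subtype.ext ?_
    rw [Subgroup.coe_mul, Subgroup.coe_mul, eY, eY, eY]
    exact loc_bar_inj h ha hm (hy k') (by rw [em, ← hbar, ← hbar, ← hbar, e])
  refine quot_table Y (fun i j e => sinj ?_) ?_ (fun k => ?_) (fun g k k' hg e => ?_)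
    fun t ht k a' c' e1 e2 e3 => ?_
  · have := congrArg Subtype.val e
    rw [eY, eY] at this
    rw [hbar i, hbar j]
    congr 1
  · refine Subgroup.map_injective (Subgroup.subtype_injective _) ?_
    rw [MonoidHom.map_closure, ← MonoidHom.range_eq_map, Subgroup.range_subtype, ← Set.range_comp,
      show (⇑(Subgroup.closure (nbrs (conjugatesOf d) a ∩ nbrs (conjugatesOf d) c)).subtype ∘ Y) = y
        from funext eY, hrange]
  · exact Subtype.ext (by
      rw [Subgroup.coe_mul, eY, Subgroup.coe_one]; exact loc_sq h (hy k).1)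
  · exact third g k k' (sperm g k k' hg e)
  · exact (third a' c' k (sstep t ht k a' c' e1 e2 e3).symm).symm

/-- The members of a component in the group they generate. -/
def compSet (d a : G) : Set ↥(Subgroup.closure (Comp d a)) := {x | (x : G) ∈ Comp d a}

theorem comp_group {a : G} (ha : a ∈ conjugatesOf d) :
    Cfsg.IsThreeTranspositionGroup (compSet d a) := by
  refine ⟨⟨fun x hx => ?_, fun x hx y hy => ?_⟩, fun g x hx => comp_stable h ha g.2 hx, ?_⟩
  · rw [← Subgroup.orderOf_coe]; exact (cen_of_mem h (comp_mem ha hx)).ord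
  · rcases comp_prod h ha hx hy with e | e
    · exact Or.inl (Subtype.ext e)
    · exact Or.inr (Subtype.ext e)
  · exact Subgroup.closure_closure_coe_preimage

theorem comp_conjugates {a : G} (ha : a ∈ conjugatesOf d) :
    compSet d a = conjugatesOf (⟨a, Subgroup.subset_closure .refl⟩ : ↥(Subgroup.closure (Comp d a))) := by
  ext x
  constructor
  · intro hx
    obtain ⟨g, hg, e⟩ := comp_trans h ha .refl hx
    exact isConj_iff.2 ⟨⟨g, hg⟩, Subtype.ext e⟩
  · intro hx
    obtain ⟨g, rfl⟩ := isConj_iff.1 (show IsConj _ x from hx)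
    exact comp_stable h ha g.2 .refl

theorem comp_prim {a : G} (ha : a ∈ conjugatesOf d) : Cfsg.IsPrimitiveUnderConj (compSet d a) := by
  obtain ⟨c, hc, hac⟩ := exists_opposite h ha
  refine ⟨fun x hx y hy => ?_, ⟨⟨a, Subgroup.subset_closure .refl⟩, .refl,
    ⟨c, Subgroup.subset_closure hc⟩, hc, fun e => hac ?_⟩,
    fun B hB hblock => or_iff_not_imp_left.2 fun hns => ?_⟩
  · obtain ⟨g, hg, e⟩ := comp_trans h ha hx hy
    exact ⟨⟨g, hg⟩, Subtype.ext e⟩
  · rw [show c = a from (congrArg Subtype.val e).symm]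
  · have key : Subtype.val '' B = Comp d a := by
      refine comp_block h ha (Set.image_subset_iff.2 hB) (fun g hg => ?_) fun hs => hns ?_
      · have e : (fun x => g * x * g⁻¹) '' (Subtype.val '' B) =
            Subtype.val '' ((fun x => (⟨g, hg⟩ : ↥(Subgroup.closure (Comp d a))) * x * ⟨g, hg⟩⁻¹) '' B) := by
          simp only [Set.image_image]; rfl
        rcases hblock ⟨g, hg⟩ with e' | e'
        · exact Or.inl (by rw [e, e'])
        · exact Or.inr (by rw [e]; exact Set.disjoint_image_of_injective Subtype.val_injective e')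
      · exact fun x hx y hy => Subtype.ext (hs ⟨x, hx, rfl⟩ ⟨y, hy, rfl⟩)
    refine hB.antisymm fun x hx => ?_
    have hx' : (x : G) ∈ Subtype.val '' B := key.symm ▸ (show (x : G) ∈ Comp d a from hx)
    obtain ⟨y, hy, e⟩ := hx'
    rwa [← Subtype.ext e]

theorem comp_m22 {a : G} (ha : a ∈ conjugatesOf d) :
    Cfsg.IsOfTypeM22 ↥(Subgroup.closure (Comp d a)) (compSet d a) := by
  obtain ⟨c, hc, hac⟩ := exists_opposite h ha
  obtain ⟨H, eH⟩ : ∃ H, H = Subgroup.closure (Comp d a) := ⟨_, rfl⟩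
  obtain ⟨A, eA⟩ : ∃ A : ↥(Subgroup.closure (Comp d a)), A = ⟨a, Subgroup.subset_closure .refl⟩ :=
    ⟨_, rfl⟩
  obtain ⟨C, eC⟩ : ∃ C : ↥(Subgroup.closure (Comp d a)), C = ⟨c, Subgroup.subset_closure hc⟩ :=
    ⟨_, rfl⟩
  have hnb : ∀ B : ↥(Subgroup.closure (Comp d a)), (B : G) ∈ Comp d a →
      (Subgroup.closure (Comp d a)).subtype '' {y | y ∈ compSet d a ∧ y ≠ B ∧ Commute B y} =
        nbrs (conjugatesOf d) (B : G) := by
    intro B hB
    ext y
    constructor
    · rintro ⟨x, ⟨hx, hne, hcm⟩, rfl⟩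
      exact ⟨comp_mem ha hx, fun e => hne (Subtype.ext e), hcm.map (Subgroup.closure (Comp d a)).subtype⟩
    · intro hy
      have hy' : y ∈ Comp d a := hB.tail hy
      exact ⟨⟨y, Subgroup.subset_closure hy'⟩, ⟨hy', fun e => hy.2.1 (congrArg Subtype.val e),
        Subtype.ext hy.2.2.eq⟩, rfl⟩
  refine ⟨?_, A, eA ▸ .refl, C, eC ▸ hc, fun e => hac (by subst eA eC; exact congrArg Subtype.val e.eq),
    ?_, 1, one_ne_zero, ?_⟩
  · rw [eq_bot_iff]
    intro z hz
    have hzc : ∀ x ∈ Comp d a, (z : G) * x = x * z := fun x hx =>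
      (congrArg Subtype.val (Subgroup.mem_center_iff.1 hz ⟨x, Subgroup.subset_closure hx⟩)).symm
    have hza : (z : G) ∈ Hd (conjugatesOf d) a :=
      loc_Hd h ha ▸ Subgroup.mem_centralizer_singleton_iff.2 (hzc a .refl)
    have hzz : (⟨z, hza⟩ : ↥(Hd (conjugatesOf d) a)) ∈ Subgroup.center _ :=
      Subgroup.mem_center_iff.2 fun w => Subtype.ext (by
        have := congrArg Subtype.val (Subgroup.mem_center_iff.1 hz
          ⟨w, comp_centralizer h ha .refl (Subgroup.mem_centralizer_singleton_iff.2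
            (commute_Hd w.2).eq.symm)⟩)
        simpa using this)
    rcases loc_center h ha hzz with e | e
    · exact Subgroup.mem_bot.2 (Subtype.ext e)
    · exact absurd (show Commute a c from (show (z : G) = a from e) ▸ hzc c hc) hac
  · obtain ⟨F, i₁, i₂, hF, ⟨f⟩⟩ := loc_u6 h ha
    obtain ⟨E⟩ := quot_center_map (Subgroup.closure (Comp d a)).subtype (Subgroup.subtype_injective _)
      {y | y ∈ compSet d a ∧ y ≠ A ∧ Commute A y}
    rw [hnb A (eA ▸ .refl)] at E
    subst eA
    exact ⟨F, i₁, i₂, hF, ⟨E.trans f⟩⟩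
  · obtain ⟨E⟩ := quot_center_map (Subgroup.closure (Comp d a)).subtype (Subgroup.subtype_injective _)
      ({y | y ∈ compSet d a ∧ y ≠ A ∧ Commute A y} ∩ {y | y ∈ compSet d a ∧ y ≠ C ∧ Commute C y})
    rw [Set.image_inter (Subgroup.subtype_injective _), hnb A (eA ▸ .refl), hnb C (eC ▸ hc)] at E
    subst eA eC
    obtain ⟨P⟩ := pair_table h ha hc hac
    obtain ⟨R⟩ := refl_table
    refine ⟨CfsgLib.Trans3.FiConf.Dots.sq6, CfsgLib.Trans3.FiConf.Dots.sq6_nondeg, ?_,
      ⟨(E.trans P).trans R.symm⟩⟩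
    show Cfsg.polarGramDet (⇑(SS.form fun _ : Fin 6 => (1 : ZMod 3))) = 1
    rw [SS.form_det]; decide

end CfsgLib.InvChar.Fi22Inv
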